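import Mathlib
import Cfsg.Agent.Lib.PSLAut.FieldClass
import Cfsg.Agent.Lib.PSLAut.Kernel
import Cfsg.Agent.Lib.FieldDescent.Basic
import Cfsg.Agent.Lib.CIT.Basic

/-!
Automorphism groups of `PSL` above the inner automorphisms: elementary membership and order facts
for the witnesses used against almost simple extensions.
-/

set_option autoImplicit false
set_option linter.unusedSectionVars false
set_option linter.style.haveILetI false

namespace Cfsg.Agent.Lib.ThreeOrders24

open Matrix Cfsg.Agent.Lib.PSLAut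
open scoped MatrixGroups

variable {n : ℕ} {F : Type} [Field F] [Fintype F]

theorem conj_ne_one {g : GL (Fin n) F} (i j : Fin n) (hij : i ≠ j)
    (h : (g : Matrix (Fin n) (Fin n) F) i j ≠ 0 ∨
      (g : Matrix (Fin n) (Fin n) F) i i ≠ (g : Matrix (Fin n) (Fin n) F) j j) :
    conj g ≠ 1 := fun hc => by
  obtain ⟨c, rfl⟩ := mem_center_iff_scalar.1 ((conj_eq_one_iff g).1 hc)
  simp only [GeneralLinearGroup.coe_scalar, Matrix.scalar_apply] at h
  rw [Matrix.diagonal_apply_ne _ hij, Matrix.diagonal_apply_eq, Matrix.diagonal_apply_eq] at h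
  simp at h

theorem conj_eq_one_of_smul {g : GL (Fin n) F} {c : F} (hc : c ≠ 0)
    (h : (g : Matrix (Fin n) (Fin n) F) = c • (1 : Matrix (Fin n) (Fin n) F)) : conj g = 1 :=
  (conj_eq_one_iff g).2 (mem_center_iff_scalar.2 ⟨Units.mk0 c hc, Units.ext (by
    rw [GeneralLinearGroup.coe_scalar, Matrix.scalar_apply, h, Units.val_mk0,
      Matrix.smul_one_eq_diagonal])⟩)

/-- An element whose determinant is an `n`-th power acts as an inner automorphism. -/
theorem conj_mem_inn {x : GL (Fin n) F} {u : Fˣ}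
    (hu : GeneralLinearGroup.det x = u ^ n) :
    conj x ∈ (MulAut.conj : PSLn n F →* MulAut (PSLn n F)).range := by
  let s : SLn n F := ⟨((u⁻¹ : Fˣ) : F) • (x : Matrix (Fin n) (Fin n) F), by
    rw [Matrix.det_smul, Fintype.card_fin, ← GeneralLinearGroup.val_det_apply, hu, ← Units.val_pow_eq_pow_val,
      ← Units.val_mul, inv_pow, inv_mul_cancel, Units.val_one]⟩
  refine ⟨proj s, ?_⟩
  rw [← conj_toGL]
  refine conj_eq_conj_iff.2 ⟨u⁻¹, Units.ext ?_⟩
  rw [Units.val_mul, GeneralLinearGroup.coe_scalar, Matrix.scalar_apply, ← Matrix.smul_eq_diagonal_mul]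
  rfl

variable {H : Subgroup (MulAut (PSLn n F))}

/-- Membership of inner-diagonal automorphisms only depends on the determinant class. -/
theorem conj_mem_of_det (hinn : (MulAut.conj : PSLn n F →* MulAut (PSLn n F)).range ≤ H)
    {g g' : GL (Fin n) F} (hg : conj g ∈ H) (u : Fˣ)
    (hdet : GeneralLinearGroup.det g' = GeneralLinearGroup.det g * u ^ n) : conj g' ∈ H := by
  have h1 : conj (g⁻¹ * g') ∈ H := hinn (conj_mem_inn (u := u) (by
    rw [map_mul, map_inv, hdet, inv_mul_cancel_left]))
  have h2 := H.mul_mem hg h1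
  rwa [← map_mul, mul_inv_cancel_left] at h2

theorem mul_field_mem_of_det (hinn : (MulAut.conj : PSLn n F →* MulAut (PSLn n F)).range ≤ H)
    {g g' : GL (Fin n) F} {α : MulAut (PSLn n F)} (hg : conj g * α ∈ H) (u : Fˣ)
    (hdet : GeneralLinearGroup.det g' = GeneralLinearGroup.det g * u ^ n) : conj g' * α ∈ H := by
  have h1 : conj (g' * g⁻¹) ∈ H := hinn (conj_mem_inn (u := u) (by
    rw [map_mul, map_inv, hdet]
    rw [mul_inv_eq_iff_eq_mul, mul_comm]))
  have h2 := H.mul_mem h1 hg
  rwa [map_mul, map_inv, mul_assoc, inv_mul_cancel_left] at h2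

/-- Two commuting elements of `H`, an involution and a nontrivial element of odd order, contradict CIT. -/
theorem false_of_commute (hH : CIT.IsCIT H) {a b : MulAut (PSLn n F)} (ha : a ∈ H) (hb : b ∈ H)
    (hao : orderOf a = 2) (hbo : Odd (orderOf b)) (hb1 : b ≠ 1) (hc : a * b = b * a) : False := by
  have hfin : Finite H := inferInstance
  refine hb1 (congrArg Subtype.val (hH.eq_one_of_commute_invo (t := ⟨a, ha⟩) (y := ⟨b, hb⟩)
    (by rwa [Subgroup.orderOf_mk]) (by rwa [Subgroup.orderOf_mk]) (Subtype.ext hc)))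

end Cfsg.Agent.Lib.ThreeOrders24
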