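import Mathlib
import Cfsg.Agent.Lib.ThreeOrders24.AutBasic

/-!
A CIT group of automorphisms of `PSL(3,4)` containing the inner ones consists of inner ones.
-/

set_option autoImplicit false
set_option linter.unusedSectionVars false
set_option linter.style.haveILetI false

namespace Cfsg.Agent.Lib.ThreeOrders24

open Matrix Cfsg.Agent.Lib.PSLAut
open scoped MatrixGroups

variable {F : Type} [Field F] [Fintype F] {H : Subgroup (MulAut (PSLn 3 F))}

theorem pow_three_unit (hF : Fintype.card F = 4) (d : Fˣ) : d ^ 3 = 1 := by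
  classical
  have h : Fintype.card Fˣ = 3 := by rw [Fintype.card_units, hF]
  rw [← h]
  exact pow_card_eq_one

theorem two_eq_zero_of_four (hF : Fintype.card F = 4) : (2 : F) = 0 := by
  have h : ((Fintype.card F : ℕ) : F) = 0 := FiniteField.cast_card_eq_zero F
  rw [hF] at h
  rcases mul_self_eq_zero.1 (show (2 : F) * 2 = 0 by rw [← h]; norm_num) with e
  exact e

/-- Diagonal matrix with one nontrivial entry. -/
noncomputable def dEl (d : Fˣ) : GL (Fin 3) F :=
  GeneralLinearGroup.mkOfDetNeZero (Matrix.diagonal ![(d : F), 1, 1])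
    (by simp [Matrix.det_diagonal, Fin.prod_univ_three])

theorem coe_dEl (d : Fˣ) :
    ((dEl d : GL (Fin 3) F) : Matrix (Fin 3) (Fin 3) F) = Matrix.diagonal ![(d : F), 1, 1] := rfl

theorem det_dEl (d : Fˣ) : GeneralLinearGroup.det (dEl d : GL (Fin 3) F) = d := by
  refine Units.ext ?_
  rw [GeneralLinearGroup.val_det_apply, coe_dEl, Matrix.det_diagonal]
  simp [Fin.prod_univ_three]

/-- A transvection centralised by `dEl d`. -/
noncomputable def tEl (F : Type) [Field F] [Fintype F] : GL (Fin 3) F :=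
  GeneralLinearGroup.mkOfDetNeZero !![1, 0, 0; 0, 1, 1; 0, 0, 1] (by simp [Matrix.det_fin_three])

/-- The cyclic permutation matrix. -/
noncomputable def pEl (F : Type) [Field F] [Fintype F] : GL (Fin 3) F :=
  GeneralLinearGroup.mkOfDetNeZero !![0, 1, 0; 0, 0, 1; 1, 0, 0] (by simp [Matrix.det_fin_three])

theorem coe_tEl : ((tEl F : GL (Fin 3) F) : Matrix (Fin 3) (Fin 3) F) =
    !![1, 0, 0; 0, 1, 1; 0, 0, 1] := rfl

theorem coe_pEl : ((pEl F : GL (Fin 3) F) : Matrix (Fin 3) (Fin 3) F) =
    !![0, 1, 0; 0, 0, 1; 1, 0, 0] := rfl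

theorem det_pEl : GeneralLinearGroup.det (pEl F) = 1 :=
  Units.ext (by rw [GeneralLinearGroup.val_det_apply, coe_pEl]; simp [Matrix.det_fin_three])

theorem glField_pEl (σ : F ≃+* F) : glField σ (pEl F) = pEl F := by
  refine Units.ext ?_
  ext i j
  fin_cases i <;> fin_cases j <;>
    simp [glField, GeneralLinearGroup.map_apply, coe_pEl]

theorem glInvTrans_pEl : glInvTrans (pEl F) = pEl F := by
  refine Units.ext ?_
  have h : ((pEl F)⁻¹ : GL (Fin 3) F) = pEl F ^ 2 := by
    refine inv_eq_of_mul_eq_one_right (Units.ext ?_)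
    rw [pow_two, Units.val_mul, Units.val_mul, coe_pEl, Units.val_one]
    ext i j; fin_cases i <;> fin_cases j <;> simp
  rw [coe_glInvTrans, h, pow_two, Units.val_mul, coe_pEl]
  ext i j; fin_cases i <;> fin_cases j <;> simp

theorem orderOf_conj_pEl : orderOf (conj (pEl F) : MulAut (PSLn 3 F)) = 3 := by
  haveI := Fact.mk Nat.prime_three
  refine orderOf_eq_prime ?_ (conj_ne_one 0 1 (by decide) (Or.inl (by rw [coe_pEl]; simp)))
  rw [← map_pow, pow_succ, pow_two]
  refine conj_eq_one_of_smul (c := 1) one_ne_zero ?_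
  rw [Units.val_mul, Units.val_mul, coe_pEl]
  ext i j; fin_cases i <;> fin_cases j <;> simp

/-- Only inner elements among the inner-diagonal ones. -/
theorem det_eq_one (hF : Fintype.card F = 4) (hcit : CIT.IsCIT H)
    (hinn : (MulAut.conj : PSLn 3 F →* MulAut (PSLn 3 F)).range ≤ H) {g : GL (Fin 3) F}
    (hg : conj g ∈ H) : GeneralLinearGroup.det g = 1 := by
  by_contra hd
  set d := GeneralLinearGroup.det g with hd'
  haveI := Fact.mk Nat.prime_two
  haveI := Fact.mk Nat.prime_three
  have hD : conj (dEl d) ∈ H := conj_mem_of_det hinn hg 1 (by rw [det_dEl, one_pow, mul_one])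
  have hT : conj (tEl F) ∈ H := hinn (conj_mem_inn (u := 1) (Units.ext (by
    rw [GeneralLinearGroup.val_det_apply, coe_tEl, one_pow, Units.val_one]
    simp [Matrix.det_fin_three])))
  have hTo : orderOf (conj (tEl F) : MulAut (PSLn 3 F)) = 2 := by
    refine orderOf_eq_prime ?_ (conj_ne_one 1 2 (by decide) (Or.inl (by rw [coe_tEl]; simp)))
    rw [← map_pow, pow_two]
    refine conj_eq_one_of_smul (c := 1) one_ne_zero ?_
    rw [Units.val_mul, coe_tEl]
    ext i j; fin_cases i <;> fin_cases j <;> simp [one_add_one_eq_two, two_eq_zero_of_four hF]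
  have hd1 : (d : F) ≠ 1 := fun e => hd (Units.ext e)
  have hDo : orderOf (conj (dEl d) : MulAut (PSLn 3 F)) = 3 := by
    refine orderOf_eq_prime ?_ (conj_ne_one 0 1 (by decide) (Or.inr ?_))
    · rw [← map_pow]
      refine conj_eq_one_of_smul (c := 1) one_ne_zero ?_
      rw [Units.val_pow_eq_pow_val, coe_dEl, Matrix.diagonal_pow, one_smul, ← Matrix.diagonal_one]
      congr 1
      ext i
      have h3 : (d : F) ^ 3 = 1 := by rw [← Units.val_pow_eq_pow_val, pow_three_unit hF, Units.val_one]
      fin_cases i <;> simp [h3]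
    · rw [coe_dEl]; simpa using hd1
  refine false_of_commute hcit hT hD hTo (by rw [hDo]; decide) (fun e => by simp [e] at hDo) ?_
  rw [← map_mul, ← map_mul]
  congr 1
  refine Units.ext ?_
  rw [Units.val_mul, Units.val_mul, coe_tEl, coe_dEl]
  ext i j; fin_cases i <;> fin_cases j <;> simp

/-- An outer involution `α` with fixed cyclic permutation matrix. -/
theorem false_of_outer (hF : Fintype.card F = 4) (hcit : CIT.IsCIT H)
    (hinn : (MulAut.conj : PSLn 3 F →* MulAut (PSLn 3 F)).range ≤ H) {α : MulAut (PSLn 3 F)}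
    {τ : GL (Fin 3) F →* GL (Fin 3) F} (hτ : ∀ x, α * conj x = conj (τ x) * α) (hα2 : α * α = 1)
    (hα : α ≠ 1) (hρ : τ (pEl F) = pEl F)
    (hx : ∀ g, GeneralLinearGroup.det (g * τ g) = 1 →
      ∃ x, GeneralLinearGroup.det (x * (τ x)⁻¹) = GeneralLinearGroup.det g)
    {g : GL (Fin 3) F} (hg : conj g * α ∈ H) : False := by
  haveI := Fact.mk Nat.prime_two
  have h2 : conj (g * τ g) ∈ H := by
    have := H.mul_mem hg hg
    rwa [show conj g * α * (conj g * α) = conj (g * τ g) by
      rw [mul_assoc, ← mul_assoc α, hτ, mul_assoc, hα2, mul_one, ← map_mul]] at this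
  obtain ⟨x, hxd⟩ := hx g (det_eq_one hF hcit hinn h2)
  have hγ : conj x * α * (conj x)⁻¹ ∈ H := by
    rw [← map_inv, mul_assoc, hτ, ← mul_assoc, ← map_mul, map_inv τ]
    exact mul_field_mem_of_det hinn hg 1 (by rw [hxd, one_pow, mul_one])
  have hρ' : conj x * conj (pEl F) * (conj x)⁻¹ ∈ H := by
    rw [← map_inv, ← map_mul, ← map_mul]
    exact hinn (conj_mem_inn (u := 1) (by
      rw [one_pow, map_mul, map_mul, det_pEl, mul_one, map_inv, mul_inv_cancel]))
  have hcomm : α * conj (pEl F) = conj (pEl F) * α := by rw [hτ, hρ]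
  refine false_of_commute hcit hγ hρ' ?_ ?_ ?_ ?_
  · rw [← MulAut.conj_apply (conj x) α, MulEquiv.orderOf_eq]
    exact orderOf_eq_prime (by rw [pow_two, hα2]) hα
  · rw [← MulAut.conj_apply (conj x) (conj (pEl F)), MulEquiv.orderOf_eq, orderOf_conj_pEl]
    decide
  · intro e
    have h3 : orderOf (conj (pEl F) : MulAut (PSLn 3 F)) = 3 := orderOf_conj_pEl
    rw [mul_inv_eq_one, mul_eq_left] at e
    rw [e, orderOf_one] at h3
    omega
  · rw [← MulAut.conj_apply (conj x) α, ← MulAut.conj_apply (conj x) (conj (pEl F)), ← map_mul,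
      ← map_mul, hcomm]

/-- A nontrivial field automorphism of the field of four elements inverts units. -/
theorem field_inv (hF : Fintype.card F = 4) {σ : F ≃+* F} (hσ : σ ≠ 1) (d : Fˣ) :
    σ (d : F) = ((d⁻¹ : Fˣ) : F) := by
  have hroot : ∀ x : F, x ≠ 0 → x ≠ 1 → x ^ 2 + x + 1 = 0 := by
    intro x h0 h1
    have h3 : x ^ 3 = 1 := by
      have := congrArg Units.val (pow_three_unit hF (Units.mk0 x h0))
      simpa using this
    refine (mul_eq_zero.1 (?_ : (x - 1) * (x ^ 2 + x + 1) = 0)).resolve_left (sub_ne_zero.2 h1)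
    linear_combination h3
  obtain ⟨x, hx⟩ : ∃ x, σ x ≠ x := by
    by_contra! h
    exact hσ (RingEquiv.ext h)
  have hx0 : x ≠ 0 := by rintro rfl; exact hx (map_zero σ)
  have hx1 : x ≠ 1 := by rintro rfl; exact hx (map_one σ)
  have hr := hroot x hx0 hx1
  have h2 := two_eq_zero_of_four hF
  have hor : ∀ y : F, y ^ 2 + y + 1 = 0 → y = x ∨ y = x ^ 2 := by
    intro y hy
    rcases mul_eq_zero.1 (show (y - x) * (y - x ^ 2) = 0 by
      linear_combination hy + (-y + x - 1) * hr + (0 : F) * h2) with e | e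
    · exact Or.inl (sub_eq_zero.1 e)
    · exact Or.inr (sub_eq_zero.1 e)
  have hsx : σ x = x ^ 2 := (hor _ (by
    rw [← map_pow, ← map_add, ← map_one σ, ← map_add, hr, map_zero])).resolve_left hx
  have hd3 : ((d : F)) ^ 3 = 1 := by
    rw [← Units.val_pow_eq_pow_val, pow_three_unit hF, Units.val_one]
  have hsq : σ (d : F) = (d : F) ^ 2 := by
    by_cases h1 : (d : F) = 1
    · rw [h1, map_one, one_pow]
    rcases hor _ (hroot _ d.ne_zero h1) with e | e
    · rw [e, hsx]
    · rw [e, map_pow, hsx]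
  rw [hsq, Units.val_inv_eq_inv_val]
  exact eq_inv_of_mul_eq_one_left (by rw [← pow_succ, hd3])

/-- A CIT subgroup of `Aut PSL(3,4)` above the inner automorphisms is the inner one. -/
theorem le_inn_three (hF : Fintype.card F = 4) (hcit : CIT.IsCIT H)
    (hinn : (MulAut.conj : PSLn 3 F →* MulAut (PSLn 3 F)).range ≤ H) :
    H ≤ (MulAut.conj : PSLn 3 F →* MulAut (PSLn 3 F)).range := by
  intro β hβ
  obtain ⟨g, σ, ε, hε, rfl⟩ := exists_eq_conj_mul_fieldAut_mul (by norm_num) β
  have hne : ∀ (σ' : F ≃+* F) (b : Bool), (σ' ≠ 1 ∨ b = true) →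
      fieldAut σ' * (if b then invTrans else 1) ≠ (1 : MulAut (PSLn 3 F)) := by
    intro σ' b hb e
    obtain ⟨-, h1, h2⟩ := normalForm_injective (le_refl 3) (g := (1 : GL (Fin 3) F)) (g' := 1)
      (σ := σ') (σ' := 1) (b := b) (b' := false)
      (by rw [map_one, map_one, one_mul, one_mul]; simpa using e)
    rcases hb with hb | hb
    · exact hb h1
    · rw [hb] at h2; exact Bool.noConfusion h2
  have hdet : ∀ (σ' : F ≃+* F) (x : GL (Fin 3) F),
      ((GeneralLinearGroup.det (glField σ' x) : Fˣ) : F) = σ' ((GeneralLinearGroup.det x : Fˣ) : F) :=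
    fun σ' x => by
      rw [GeneralLinearGroup.val_det_apply, GeneralLinearGroup.val_det_apply]
      exact (RingHom.map_det σ'.toRingHom _).symm
  have hdetI : ∀ x : GL (Fin 3) F, GeneralLinearGroup.det (glInvTrans x) = (GeneralLinearGroup.det x)⁻¹ :=
    fun x => Units.ext (by
      rw [GeneralLinearGroup.val_det_apply, coe_glInvTrans, Matrix.det_transpose,
        ← GeneralLinearGroup.val_det_apply, map_inv])
  have h4 : ∀ d : Fˣ, d ^ 2 * d ^ 2 = d := fun d => by
    rw [← pow_add, pow_succ, pow_three_unit hF, one_mul]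
  rcases hε with rfl | rfl
  · rw [mul_one] at hβ ⊢
    by_cases hσ : σ = 1
    · subst hσ
      rw [map_one, mul_one] at hβ ⊢
      exact conj_mem_inn (u := 1) (by rw [one_pow]; exact det_eq_one hF hcit hinn hβ)
    exfalso
    have hinv : ∀ x, GeneralLinearGroup.det (glField σ x) = (GeneralLinearGroup.det x)⁻¹ :=
      fun x => Units.ext (by rw [hdet, field_inv hF hσ])
    have hσ2 : σ * σ = 1 := RingEquiv.ext fun x => by
      rcases eq_or_ne x 0 with rfl | h0
      · simp
      · show σ (σ x) = x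
        rw [show x = ((Units.mk0 x h0 : Fˣ) : F) from rfl, field_inv hF hσ, field_inv hF hσ, inv_inv]
    refine false_of_outer hF hcit hinn (τ := glField σ) (fieldAut_mul_conj σ)
      (by rw [← map_mul, hσ2, map_one]) (by simpa using hne σ false (Or.inl hσ)) (glField_pEl σ)
      (fun g' _ => ⟨dEl ((GeneralLinearGroup.det g') ^ 2), ?_⟩) hβ
    rw [map_mul, map_inv, hinv, det_dEl, inv_inv, h4]
  · exfalso
    by_cases hσ : σ = 1
    · subst hσ
      rw [map_one, mul_one] at hβ
      refine false_of_outer hF hcit hinn (τ := glInvTrans) invTrans_mul_conj invTrans_mul_self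
        (by simpa using hne 1 true (Or.inr rfl)) glInvTrans_pEl
        (fun g' _ => ⟨dEl ((GeneralLinearGroup.det g') ^ 2), ?_⟩) hβ
      rw [map_mul, map_inv, hdetI, det_dEl, inv_inv, h4]
    · rw [mul_assoc] at hβ
      have hσ2 : σ * σ = 1 := RingEquiv.ext fun x => by
        rcases eq_or_ne x 0 with rfl | h0
        · simp
        · show σ (σ x) = x
          rw [show x = ((Units.mk0 x h0 : Fˣ) : F) from rfl, field_inv hF hσ, field_inv hF hσ, inv_inv]
      refine false_of_outer hF hcit hinn (τ := (glField σ).comp glInvTrans)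
        (fun x => by
          rw [mul_assoc, invTrans_mul_conj, ← mul_assoc, fieldAut_mul_conj, mul_assoc]; rfl)
        (by rw [mul_assoc, ← mul_assoc invTrans, invTrans_mul_fieldAut, mul_assoc, invTrans_mul_self,
          mul_one, ← map_mul, hσ2, map_one])
        (by simpa using hne σ true (Or.inl hσ))
        (by rw [MonoidHom.comp_apply, glInvTrans_pEl, glField_pEl])
        (fun g' hg' => ⟨1, ?_⟩) hβ
      have hd : GeneralLinearGroup.det ((glField σ).comp glInvTrans g') = GeneralLinearGroup.det g' := by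
        refine Units.ext ?_
        rw [MonoidHom.comp_apply, hdet, field_inv hF hσ, hdetI, inv_inv]
      rw [map_mul, hd] at hg'
      rw [map_one, inv_one, mul_one, map_one]
      calc (1 : Fˣ) = (GeneralLinearGroup.det g' * GeneralLinearGroup.det g') ^ 2 := by rw [hg', one_pow]
        _ = GeneralLinearGroup.det g' := by rw [← pow_two, ← pow_mul, pow_succ, pow_three_unit hF, one_mul]

end Cfsg.Agent.Lib.ThreeOrders24
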