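import Mathlib
import Cfsg.Agent.Lib.ThreeOrders24.AutBasic
import Cfsg.Agent.Lib.PSLSpectrum.Spectrum

/-!
Groups of automorphisms of `PSL₂(q)` containing the inner automorphisms and something outer: for
`q ∈ {4, 7, 9}` they are not CIT or have an element of order eight; for even `q` and `q ≡ 3, 5 (mod 8)`
they have an element of order four, or some prime divides three element orders.
-/

set_option autoImplicit false
set_option linter.unusedSectionVars false
set_option linter.style.haveILetI false

namespace Cfsg.Agent.Lib.ThreeOrders24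

open Matrix Cfsg.Agent.Lib.PSLAut Cfsg.Agent.Lib.FieldDescent
open scoped MatrixGroups

variable {F : Type} [Field F] [Fintype F] {H : Subgroup (MulAut (PSLn 2 F))}

/-- A matrix in `GL₂`. -/
noncomputable def gl2 (a b c d : F) (h : a * d - b * c ≠ 0) : GL (Fin 2) F :=
  GeneralLinearGroup.mkOfDetNeZero !![a, b; c, d] (by rwa [Matrix.det_fin_two_of])

theorem coe_gl2 (a b c d : F) (h : a * d - b * c ≠ 0) :
    ((gl2 a b c d h : GL (Fin 2) F) : Matrix (Fin 2) (Fin 2) F) = !![a, b; c, d] := rfl

theorem det_gl2 (a b c d : F) (h : a * d - b * c ≠ 0) :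
    ((GeneralLinearGroup.det (gl2 a b c d h) : Fˣ) : F) = a * d - b * c := by
  rw [GeneralLinearGroup.val_det_apply, coe_gl2, Matrix.det_fin_two_of]

theorem exists_field_form (β : MulAut (PSLn 2 F)) :
    ∃ (g : GL (Fin 2) F) (σ : F ≃+* F), β = conj g * fieldAut σ := by
  obtain ⟨g, σ, ε, hε, rfl⟩ := exists_eq_conj_mul_fieldAut_mul le_rfl β
  rcases hε with rfl | rfl
  · exact ⟨g, σ, mul_one _⟩
  · obtain ⟨w, hw⟩ := invTrans_eq_conj_two (F := F)
    refine ⟨g * glField σ w, σ, ?_⟩
    rw [hw, mul_assoc, fieldAut_mul_conj, ← mul_assoc, ← map_mul]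

/-- A product of two nonsquares is a square. -/
theorem isSquare_mul_of_not (hodd : Odd (Fintype.card F)) {a b : F} (ha : ¬ IsSquare a)
    (hb : ¬ IsSquare b) : IsSquare (a * b) := by
  classical
  have h2 : ringChar F ≠ 2 := fun h => by
    have := FiniteField.even_card_iff_char_two.1 h
    rw [Nat.odd_iff] at hodd
    omega
  have hab : a * b ≠ 0 := mul_ne_zero (fun e => ha (e ▸ IsSquare.zero)) (fun e => hb (e ▸ IsSquare.zero))
  rw [← quadraticChar_one_iff_isSquare hab, map_mul, quadraticChar_neg_one_iff_not_isSquare.2 ha,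
    quadraticChar_neg_one_iff_not_isSquare.2 hb]
  norm_num

/-- Membership only depends on the square class of the determinant. -/
theorem mem_of_isSquare (hinn : (MulAut.conj : PSLn 2 F →* MulAut (PSLn 2 F)).range ≤ H)
    {g g' : GL (Fin 2) F} {α : MulAut (PSLn 2 F)} (hg : conj g * α ∈ H)
    (h : IsSquare (((GeneralLinearGroup.det g : Fˣ) : F) * ((GeneralLinearGroup.det g' : Fˣ) : F))) :
    conj g' * α ∈ H := by
  obtain ⟨u, hu⟩ := h
  have hu0 : u ≠ 0 := by
    rintro rfl
    rw [mul_zero] at hu
    exact mul_ne_zero (Units.ne_zero _) (Units.ne_zero _) hu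
  refine mul_field_mem_of_det hinn hg ((GeneralLinearGroup.det g)⁻¹ * Units.mk0 u hu0) (Units.ext ?_)
  simp only [Units.val_mul, Units.val_pow_eq_pow_val, Units.val_mk0, Units.val_inv_eq_inv_val]
  set a := ((GeneralLinearGroup.det g : Fˣ) : F) with ha
  have ha0 : a ≠ 0 := Units.ne_zero _
  apply mul_left_cancel₀ ha0
  field_simp
  linear_combination hu

theorem glField_two (σ : F ≃+* F) (a b c d : F) (h : a * d - b * c ≠ 0) :
    ((glField σ (gl2 a b c d h) : GL (Fin 2) F) : Matrix (Fin 2) (Fin 2) F) = !![σ a, σ b; σ c, σ d] := by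
  ext i j
  fin_cases i <;> fin_cases j <;> rfl

theorem orderOf_fieldAut (σ : F ≃+* F) :
    orderOf (fieldAut σ : MulAut (PSLn 2 F)) = orderOf σ :=
  orderOf_injective _ (fieldAut_injective le_rfl) σ

theorem fieldAut_commute_conj (σ : F ≃+* F) {g : GL (Fin 2) F} (h : glField σ g = g) :
    fieldAut σ * conj g = conj g * fieldAut σ := by
  rw [fieldAut_mul_conj, h]

/-- The standard involution `(0 1; -1 0)`. -/
noncomputable def wEl (F : Type) [Field F] [Fintype F] : GL (Fin 2) F := gl2 0 1 (-1) 0 (by simp)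

/-- The standard element of order three `(0 -1; 1 1)`. -/
noncomputable def rEl (F : Type) [Field F] [Fintype F] : GL (Fin 2) F := gl2 0 (-1) 1 1 (by simp)

theorem orderOf_wEl : orderOf (conj (wEl F) : MulAut (PSLn 2 F)) = 2 := by
  refine orderOf_eq_prime ?_ (conj_ne_one 0 1 (by decide) (Or.inl ?_))
  · rw [← map_pow, pow_two]
    refine conj_eq_one_of_smul (c := -1) (by simp) ?_
    rw [Units.val_mul, wEl, coe_gl2]
    ext i j; fin_cases i <;> fin_cases j <;> simp
  · rw [wEl, coe_gl2]; simp

theorem orderOf_rEl : orderOf (conj (rEl F) : MulAut (PSLn 2 F)) = 3 := by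
  haveI := Fact.mk Nat.prime_three
  refine orderOf_eq_prime ?_ (conj_ne_one 0 1 (by decide) (Or.inl ?_))
  · rw [← map_pow, pow_succ, pow_two]
    refine conj_eq_one_of_smul (c := -1) (by simp) ?_
    rw [Units.val_mul, Units.val_mul, rEl, coe_gl2]
    ext i j; fin_cases i <;> fin_cases j <;> simp
  · rw [rEl, coe_gl2]; simp

theorem glField_wEl (σ : F ≃+* F) : glField σ (wEl F) = wEl F :=
  Units.ext (by rw [wEl, glField_two, coe_gl2]; simp)

theorem glField_rEl (σ : F ≃+* F) : glField σ (rEl F) = rEl F :=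
  Units.ext (by rw [rEl, glField_two, coe_gl2]; simp)

theorem conj_mem_of_det_one (hinn : (MulAut.conj : PSLn 2 F →* MulAut (PSLn 2 F)).range ≤ H)
    {g : GL (Fin 2) F} (h : ((GeneralLinearGroup.det g : Fˣ) : F) = 1) : conj g ∈ H :=
  hinn (conj_mem_inn (u := 1) (by rw [one_pow]; exact Units.ext h))

theorem wEl_mem (hinn : (MulAut.conj : PSLn 2 F →* MulAut (PSLn 2 F)).range ≤ H) :
    conj (wEl F) ∈ H := conj_mem_of_det_one hinn (by rw [wEl, det_gl2]; ring)

theorem rEl_mem (hinn : (MulAut.conj : PSLn 2 F →* MulAut (PSLn 2 F)).range ≤ H) :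
    conj (rEl F) ∈ H := conj_mem_of_det_one hinn (by rw [rEl, det_gl2]; ring)

/-- The outer part of an outer element. -/
theorem field_or_nonsquare (hinn : (MulAut.conj : PSLn 2 F →* MulAut (PSLn 2 F)).range ≤ H)
    (hout : ¬ H ≤ (MulAut.conj : PSLn 2 F →* MulAut (PSLn 2 F)).range) :
    ∃ (g : GL (Fin 2) F) (σ : F ≃+* F), conj g * fieldAut σ ∈ H ∧
      (σ = 1 → ¬ IsSquare ((GeneralLinearGroup.det g : Fˣ) : F)) := by
  obtain ⟨β, hβ, hβn⟩ := SetLike.not_le_iff_exists.1 hout
  obtain ⟨g, σ, rfl⟩ := exists_field_form β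
  refine ⟨g, σ, hβ, fun hσ hsq => hβn ?_⟩
  subst hσ
  rw [map_one, mul_one]
  obtain ⟨u, hu⟩ := hsq
  have hu0 : u ≠ 0 := by
    rintro rfl
    rw [mul_zero] at hu
    exact Units.ne_zero _ hu
  exact conj_mem_inn (u := Units.mk0 u hu0) (Units.ext (by simp [hu, pow_two]))

theorem fieldAut_mem_of_square (hinn : (MulAut.conj : PSLn 2 F →* MulAut (PSLn 2 F)).range ≤ H)
    {g : GL (Fin 2) F} {σ : F ≃+* F} (hg : conj g * fieldAut σ ∈ H)
    (h : IsSquare ((GeneralLinearGroup.det g : Fˣ) : F)) : fieldAut σ ∈ H := by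
  have := mem_of_isSquare hinn (g' := 1) hg (by rw [map_one, Units.val_one, mul_one]; exact h)
  rwa [map_one, one_mul] at this

/-- `q ∈ {4, 7, 9}`: no outer element in a CIT group without elements of order eight. -/
theorem le_inn_small (hinn : (MulAut.conj : PSLn 2 F →* MulAut (PSLn 2 F)).range ≤ H)
    (hq : Fintype.card F = 4 ∨ Fintype.card F = 7 ∨ Fintype.card F = 9)
    (hcit : CIT.IsCIT H) (h8 : ∀ x ∈ H, ¬ 8 ∣ orderOf x) :
    H ≤ (MulAut.conj : PSLn 2 F →* MulAut (PSLn 2 F)).range := by
  classical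
  haveI := Fact.mk Nat.prime_two
  by_contra hout
  obtain ⟨g, σ, hmem, hns⟩ := field_or_nonsquare hinn hout
  have hK := card_eq_pow σ
  have hK1 := one_lt_card_fixed σ
  rw [Nat.card_eq_fintype_card] at hK
  have hσord : σ ≠ 1 → orderOf σ = 2 ∧ Fintype.card F ≠ 7 := by
    intro hσ
    have ho : 2 ≤ orderOf σ := by
      have h0 : 0 < orderOf σ := by
        by_contra h0
        rw [not_lt, Nat.le_zero] at h0
        rw [h0, pow_zero] at hK
        omega
      have h1 : orderOf σ ≠ 1 := fun e => hσ (orderOf_eq_one_iff.1 e)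
      omega
    have hp : ∀ k, k ≤ orderOf σ → Nat.card ↥(fixedField σ) ^ k ≤ Fintype.card F := fun k hk =>
      hK ▸ Nat.pow_le_pow_right (by omega) hk
    have h2 := hp 2 ho
    have h3 : orderOf σ ≤ 3 := by
      by_contra h
      have := (Nat.pow_le_pow_left (show 2 ≤ _ from hK1) 4).trans (hp 4 (by omega))
      norm_num at this
      omega
    have hK3 : Nat.card ↥(fixedField σ) ≤ 3 := by
      by_contra h
      have := (Nat.pow_le_pow_left (show 4 ≤ _ by omega) 2).trans h2
      norm_num at this
      omega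
    interval_cases hA : orderOf σ <;> interval_cases hB : Nat.card ↥(fixedField σ) <;> norm_num at hK <;>
      omega
  have key : fieldAut σ ∈ H → σ ≠ 1 → False := fun hf hσ => by
    refine false_of_commute hcit hf (rEl_mem hinn) ?_ ?_ ?_ (fieldAut_commute_conj σ (glField_rEl σ))
    · rw [orderOf_fieldAut, (hσord hσ).1]
    · rw [orderOf_rEl]; decide
    · intro e
      have := orderOf_rEl (F := F)
      rw [e, orderOf_one] at this
      omega
  by_cases hsq : IsSquare ((GeneralLinearGroup.det g : Fˣ) : F)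
  · exact key (fieldAut_mem_of_square hinn hmem hsq) (fun e => hns e hsq)
  have hodd : Odd (Fintype.card F) := by
    by_contra he
    refine hsq (FiniteField.isSquare_of_char_two ?_ _)
    by_contra hc
    rw [Nat.not_odd_iff_even, Nat.even_iff] at he
    exact absurd (FiniteField.odd_card_of_char_ne_two hc) (by omega)
  obtain ⟨ν, hν⟩ := IsCyclic.exists_generator (α := Fˣ)
  have hνord : orderOf ν = Fintype.card F - 1 := by
    rw [orderOf_eq_card_of_forall_mem_zpowers hν, Nat.card_units, Nat.card_eq_fintype_card]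
  have hpow : ∀ k : ℕ, (ν : F) ^ k = 1 → Fintype.card F - 1 ∣ k := fun k hk => by
    rw [← hνord]
    exact orderOf_dvd_of_pow_eq_one (Units.ext (by simpa using hk))
  have hνns : ¬ IsSquare (ν : F) := by
    rintro ⟨r, hr⟩
    have hr0 : r ≠ 0 := by rintro rfl; simp at hr
    have h1 : (ν : F) ^ ((Fintype.card F - 1) / 2) = 1 := by
      have hq' : 2 * ((Fintype.card F - 1) / 2) = Fintype.card F - 1 := by
        rw [Nat.odd_iff] at hodd; omega
      rw [hr, ← pow_two, ← pow_mul, hq']
      exact FiniteField.pow_card_sub_one_eq_one r hr0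
    have := Nat.le_of_dvd (by rw [Nat.odd_iff] at hodd; omega) (hpow _ h1)
    omega
  have hd1 : (ν : F) * 1 - 0 * 0 ≠ 0 := by simp
  have hd2 : (0 : F) * 0 - (ν : F) * (-1) ≠ 0 := by simp
  by_cases hσ : σ = 1
  · subst hσ
    rw [map_one, mul_one] at hmem
    have hD : conj (gl2 (ν : F) 0 0 1 hd1) ∈ H := by
      have := mem_of_isSquare hinn (α := 1) (g' := gl2 (ν : F) 0 0 1 hd1) (by rwa [mul_one])
        (isSquare_mul_of_not hodd hsq (by rw [det_gl2]; simpa using hνns))
      rwa [mul_one] at this
    set D := gl2 (ν : F) 0 0 1 hd1 with hDdef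
    have hDk : ∀ k : ℕ, ((D ^ k : GL (Fin 2) F) : Matrix (Fin 2) (Fin 2) F) = !![(ν : F) ^ k, 0; 0, 1] := by
      intro k
      induction k with
      | zero => ext i j; fin_cases i <;> fin_cases j <;> simp
      | succ k ih =>
        rw [pow_succ, Units.val_mul, ih, hDdef, coe_gl2]
        ext i j; fin_cases i <;> fin_cases j <;> simp [pow_succ]
    have hord : orderOf (conj D : MulAut (PSLn 2 F)) = Fintype.card F - 1 := by
      refine (orderOf_eq_iff (by omega)).2 ⟨?_, fun k hk hk0 h1 => ?_⟩
      · rw [← map_pow]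
        refine conj_eq_one_of_smul one_ne_zero ?_
        rw [hDk, ← Units.val_pow_eq_pow_val, ← hνord, pow_orderOf_eq_one]
        ext i j; fin_cases i <;> fin_cases j <;> simp
      · refine conj_ne_one (g := D ^ k) 0 1 (by decide) (Or.inr ?_) (by rw [map_pow, h1])
        rw [hDk]
        simp only [Matrix.of_apply, Matrix.cons_val', Matrix.cons_val_zero, Matrix.cons_val_one,
          Matrix.empty_val', Matrix.cons_val_fin_one]
        intro e
        exact absurd (Nat.le_of_dvd hk0 (hpow k e)) (by omega)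
    rcases hq with h4 | h7 | h9
    · rw [h4] at hodd; exact absurd hodd (by decide)
    · rw [h7] at hord
      refine false_of_commute hcit (H.pow_mem hD 3) (H.pow_mem hD 2) ?_ ?_ ?_
        ((Commute.refl _).pow_pow 3 2).eq
      · rw [orderOf_pow, hord]; norm_num
      · rw [orderOf_pow, hord]; decide
      · intro e
        have := orderOf_dvd_of_pow_eq_one e
        rw [hord] at this; omega
    · exact h8 _ hD (by rw [hord, h9])
  · obtain ⟨ho, h7⟩ := hσord hσ
    have h9 : Fintype.card F = 9 := by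
      rcases hq with h4 | h7' | h9
      · rw [h4] at hodd; exact absurd hodd (by decide)
      · exact absurd h7' h7
      · exact h9
    set g' := gl2 (0 : F) (ν : F) (-1) 0 hd2 with hg'
    have hβ : conj g' * fieldAut σ ∈ H :=
      mem_of_isSquare hinn hmem (isSquare_mul_of_not hodd hsq (by rw [hg', det_gl2]; simpa using hνns))
    set β := conj g' * fieldAut σ with hβdef
    have hsig : fieldAut σ * fieldAut σ = (1 : MulAut (PSLn 2 F)) := by
      rw [← pow_two, ← ho, ← map_pow, pow_orderOf_eq_one, map_one]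
    have hβ2 : β ^ 2 = conj (g' * glField σ g') := by
      rw [pow_two, hβdef]
      calc conj g' * fieldAut σ * (conj g' * fieldAut σ)
          = conj g' * (fieldAut σ * conj g') * fieldAut σ := by simp only [mul_assoc]
        _ = _ := by rw [fieldAut_mul_conj, map_mul conj, ← mul_assoc, mul_assoc _ (fieldAut σ), hsig, mul_one]
    have hm2 : ((g' * glField σ g' : GL (Fin 2) F) : Matrix (Fin 2) (Fin 2) F) =
        !![-(ν : F), 0; 0, -σ (ν : F)] := by
      rw [Units.val_mul, hg', glField_two, coe_gl2]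
      ext i j; fin_cases i <;> fin_cases j <;> simp
    have hne : (ν : F) ^ 2 ≠ σ (ν : F) ^ 2 := by
      intro e
      have hfix : (ν : F) ^ 2 ∈ fixedField σ := by
        rw [mem_fixedField, map_pow, ← e]
      have hc3 : Nat.card ↥(fixedField σ) = 3 := by
        rw [ho, h9] at hK
        nlinarith
      haveI := Fintype.ofFinite ↥(fixedField σ)
      have h3 := FiniteField.pow_card (⟨_, hfix⟩ : fixedField σ)
      rw [← Nat.card_eq_fintype_card, hc3] at h3
      have h3' : ((ν : F) ^ 2) ^ 3 = (ν : F) ^ 2 := congrArg Subtype.val h3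
      have h4 : (ν : F) ^ 4 = 1 := by
        refine mul_left_cancel₀ (pow_ne_zero 2 ν.ne_zero) ?_
        rw [mul_one]
        linear_combination h3'
      have := Nat.le_of_dvd (by omega) (hpow 4 h4)
      omega
    have hord : orderOf β = 2 ^ 3 := by
      refine orderOf_eq_prime_pow (p := 2) (n := 2) ?_ ?_
      · rw [show (2 : ℕ) ^ 2 = 2 * 2 from rfl, pow_mul, hβ2, ← map_pow]
        refine conj_ne_one 0 1 (by decide) (Or.inr ?_)
        rw [pow_two, Units.val_mul, hm2]
        simpa [pow_two, Matrix.mul_apply, Fin.sum_univ_two] using hne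
      · rw [show (2 : ℕ) ^ (2 + 1) = 2 * 4 from rfl, pow_mul, hβ2, ← map_pow]
        have h84 : (ν : F) ^ 4 = -1 := by
          have h8 : ((ν : F) ^ 4) ^ 2 = 1 := by
            rw [← pow_mul, show 4 * 2 = Fintype.card F - 1 by omega, FiniteField.pow_card_sub_one_eq_one _ ν.ne_zero]
          refine (sq_eq_one_iff.1 h8).resolve_left fun e => ?_
          have := Nat.le_of_dvd (by omega) (hpow 4 e)
          omega
        refine conj_eq_one_of_smul (c := -1) (by simp) ?_
        have hpk : ∀ k : ℕ, (((g' * glField σ g') ^ k : GL (Fin 2) F) : Matrix (Fin 2) (Fin 2) F) =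
            !![(-(ν : F)) ^ k, 0; 0, (-σ (ν : F)) ^ k] := by
          intro k
          induction k with
          | zero => ext i j; fin_cases i <;> fin_cases j <;> simp
          | succ k ih =>
            rw [pow_succ, Units.val_mul, ih, hm2]
            ext i j; fin_cases i <;> fin_cases j <;> simp [pow_succ]
        have hσ4 : σ (ν : F) ^ 4 = -1 := by rw [← map_pow, h84, map_neg, map_one]
        rw [hpk, Even.neg_pow (by decide), Even.neg_pow (by decide), h84, hσ4]
        ext i j; fin_cases i <;> fin_cases j <;> simp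
    exact h8 _ hβ (hord ▸ dvd_rfl)

/-- An upper unitriangular matrix. -/
noncomputable def uEl (a : F) : GL (Fin 2) F := gl2 1 a 0 1 (by simp)

theorem uEl_mul (a b : F) : uEl a * uEl b = uEl (a + b) :=
  Units.ext (by
    rw [Units.val_mul, uEl, uEl, uEl, coe_gl2, coe_gl2, coe_gl2]
    ext i j; fin_cases i <;> fin_cases j <;> simp [add_comm])

theorem glField_uEl (σ : F ≃+* F) (a : F) : glField σ (uEl a) = uEl (σ a) :=
  Units.ext (by rw [uEl, uEl, glField_two, coe_gl2]; simp)

theorem uEl_field_sq (σ : F ≃+* F) (a : F) :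
    (conj (uEl a) * fieldAut σ) ^ 2 = conj (uEl (a + σ a)) * fieldAut (σ ^ 2) := by
  rw [pow_two, pow_two, map_mul fieldAut, mul_assoc, ← mul_assoc (fieldAut σ), fieldAut_mul_conj,
    glField_uEl, ← uEl_mul, map_mul conj]
  simp only [mul_assoc]

theorem uEl_field_cube (σ : F ≃+* F) (a : F) :
    (conj (uEl a) * fieldAut σ) ^ 3 = conj (uEl (a + σ a + σ (σ a))) * fieldAut (σ ^ 3) := by
  rw [pow_succ', uEl_field_sq, pow_succ' σ 2, map_mul fieldAut, mul_assoc, ← mul_assoc (fieldAut σ),
    fieldAut_mul_conj, glField_uEl, ← mul_assoc, ← mul_assoc, ← map_mul, uEl_mul, map_add σ, ← add_assoc,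
    mul_assoc]

theorem conj_uEl_eq_one {a : F} : conj (uEl a) = (1 : MulAut (PSLn 2 F)) ↔ a = 0 := by
  refine ⟨fun h => by_contra fun ha => conj_ne_one 0 1 (by decide) (Or.inl ?_) h, fun h => ?_⟩
  · rw [uEl, coe_gl2]; simpa using ha
  · refine conj_eq_one_of_smul one_ne_zero ?_
    rw [h, uEl, coe_gl2]
    ext i j; fin_cases i <;> fin_cases j <;> simp

/-- The trace of a field automorphism of order three is not zero. -/
theorem exists_trace_ne_zero {σ : F ≃+* F} (h : orderOf σ = 3) :
    ∃ a : F, a + σ a + σ (σ a) ≠ 0 := by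
  by_contra! hall
  have h1 : σ ≠ 1 := fun e => by rw [e, orderOf_one] at h; omega
  obtain ⟨b, hb⟩ : ∃ b, σ b ≠ b := by
    by_contra! hb
    exact h1 (RingEquiv.ext hb)
  have key : ∀ a, (σ b - b) * (σ a - σ (σ a)) = 0 := by
    intro a
    have e1 := hall (b * a)
    rw [map_mul, map_mul] at e1
    have e2 := hall 1
    rw [map_one, map_one] at e2
    linear_combination e1 - b * hall a - (σ (σ a)) * hall b + b * (σ (σ a)) * e2
  refine h1 (RingEquiv.ext fun a => ?_)
  obtain ⟨c, rfl⟩ := σ.surjective a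
  have := (mul_eq_zero.1 (key c)).resolve_left (sub_ne_zero.2 hb)
  exact (sub_eq_zero.1 this).symm

/-- Even `q`, or `q ≡ 3, 5 (mod 8)`: no outer element when the even orders are `2, 2p` and those
divisible by `p` are `p, 2p`. -/
theorem le_inn_pair (hinn : (MulAut.conj : PSLn 2 F →* MulAut (PSLn 2 F)).range ≤ H)
    (hcenter : Function.Injective (MulAut.conj : PSLn 2 F →* MulAut (PSLn 2 F)))
    (hq4 : 4 ≤ Fintype.card F)
    (hq : Even (Fintype.card F) ∨ Fintype.card F % 8 = 3 ∨ Fintype.card F % 8 = 5) {p : ℕ}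
    (hp : p.Prime) (hp2 : p ≠ 2) (h4 : ∀ x ∈ H, ¬ 4 ∣ orderOf x)
    (hev : ∀ x ∈ H, 2 ∣ orderOf x → orderOf x = 2 ∨ orderOf x = 2 * p)
    (hdv : ∀ x ∈ H, p ∣ orderOf x → orderOf x = p ∨ orderOf x = 2 * p) :
    H ≤ (MulAut.conj : PSLn 2 F →* MulAut (PSLn 2 F)).range := by
  classical
  haveI := Fact.mk Nat.prime_two
  by_contra hout
  obtain ⟨g, σ, hmem, hns⟩ := field_or_nonsquare hinn hout
  have hodd_of : ¬ IsSquare ((GeneralLinearGroup.det g : Fˣ) : F) → Odd (Fintype.card F) := by
    intro hsq
    by_contra he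
    refine hsq (FiniteField.isSquare_of_char_two ?_ _)
    by_contra hc
    rw [Nat.not_odd_iff_even, Nat.even_iff] at he
    exact absurd (FiniteField.odd_card_of_char_ne_two hc) (by omega)
  by_cases hσ : σ = 1
  · subst hσ
    have hsq := hns rfl
    have hodd := hodd_of hsq
    have h8 : Fintype.card F % 8 = 3 ∨ Fintype.card F % 8 = 5 := by
      rw [Nat.odd_iff] at hodd
      rcases hq with h | h | h
      · rw [Nat.even_iff] at h; omega
      · exact Or.inl h
      · exact Or.inr h
    have h2ns : ¬ IsSquare (2 : F) := by rw [FiniteField.isSquare_two_iff]; omega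
    have h20 : (2 : F) ≠ 0 := fun e => h2ns (e ▸ IsSquare.zero)
    have hdet : (1 : F) * 1 - 1 * (-1) ≠ 0 := by
      intro e; exact h20 (by linear_combination e)
    set D := gl2 (1 : F) 1 (-1) 1 hdet with hDdef
    have hD : conj D ∈ H := by
      have := mem_of_isSquare hinn (g' := D) hmem
        (isSquare_mul_of_not hodd hsq (by
          rw [hDdef, det_gl2]; ring_nf; exact h2ns))
      rwa [map_one, mul_one] at this
    have hD2 : ((D ^ 2 : GL (Fin 2) F) : Matrix (Fin 2) (Fin 2) F) = !![(0 : F), 2; -2, 0] := by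
      rw [pow_two, Units.val_mul, hDdef, coe_gl2]
      ext i j; fin_cases i <;> fin_cases j <;> simp <;> ring
    have hord : orderOf (conj D : MulAut (PSLn 2 F)) = 2 ^ 2 := by
      refine orderOf_eq_prime_pow (p := 2) (n := 1) ?_ ?_
      · rw [pow_one, ← map_pow]
        refine conj_ne_one 0 1 (by decide) (Or.inl ?_)
        rw [hD2]; simpa using h20
      · rw [← map_pow, show (2 : ℕ) ^ (1 + 1) = 2 * 2 from rfl, pow_mul]
        refine conj_eq_one_of_smul (c := -(2 * 2)) (by simpa using h20) ?_
        rw [pow_two (D ^ 2), Units.val_mul, hD2]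
        ext i j; fin_cases i <;> fin_cases j <;> simp
    exact h4 _ hD (hord ▸ dvd_rfl)
  -- a field automorphism of prime order
  obtain ⟨τ, hτH, hτ⟩ : ∃ τ : F ≃+* F, fieldAut τ ∈ H ∧ (orderOf τ).Prime := by
    haveI : Finite (F ≃+* F) :=
      Finite.of_injective (fun e : F ≃+* F => (e : F → F)) DFunLike.coe_injective
    set o := orderOf σ with ho
    have ho1 : o ≠ 1 := fun e => hσ (orderOf_eq_one_iff.1 e)
    obtain ⟨s, hs, hso⟩ := Nat.exists_prime_and_dvd ho1
    set d := o / s
    have hd0 : d ≠ 0 := (Nat.div_pos (Nat.le_of_dvd (orderOf_pos σ) hso) hs.pos).ne'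
    have hdo : d ∣ o := Nat.div_dvd_of_dvd hso
    have hτo : orderOf (σ ^ d) = s := by
      rw [orderOf_pow_of_dvd hd0 hdo, Nat.div_div_self hso (orderOf_pos σ).ne']
    have hpow : conj (FieldDescent.iterProd σ g d) * fieldAut (σ ^ d) ∈ H := by
      rw [← conj_mul_fieldAut_pow]; exact H.pow_mem hmem d
    set g₁ := FieldDescent.iterProd σ g d
    by_cases hsq : IsSquare ((GeneralLinearGroup.det g₁ : Fˣ) : F)
    · exact ⟨σ ^ d, fieldAut_mem_of_square hinn hpow hsq, hτo ▸ hs⟩
    · have hodd : Odd (Fintype.card F) := by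
        by_contra he
        refine hsq (FiniteField.isSquare_of_char_two ?_ _)
        by_contra hc
        rw [Nat.not_odd_iff_even, Nat.even_iff] at he
        exact absurd (FiniteField.odd_card_of_char_ne_two hc) (by omega)
      have hs2 : s ≠ 2 := by
        rintro rfl
        have hK := card_eq_pow (σ ^ d)
        rw [hτo, Nat.card_eq_fintype_card] at hK
        rw [Nat.odd_iff] at hodd
        have h8 : Fintype.card F % 8 = 1 := by
          set K := Nat.card ↥(fixedField (σ ^ d))
          have hK2 : K % 2 = 1 := by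
            rcases Nat.even_or_odd K with h | h
            · rw [hK, Nat.pow_mod, Nat.even_iff.1 h] at hodd; simp at hodd
            · exact Nat.odd_iff.1 h
          obtain ⟨j, hj⟩ : ∃ j, K = 2 * j + 1 := ⟨K / 2, by omega⟩
          rw [hK, hj]
          have he : Even (j * (j + 1)) := Nat.even_mul_succ_self j
          obtain ⟨i, hi⟩ := he
          rw [show (2 * j + 1) ^ 2 = 4 * (j * (j + 1)) + 1 by ring, hi]
          omega
        rcases hq with h | h | h
        · rw [Nat.even_iff] at h; omega
        · omega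
        · omega
      have hsqd := H.pow_mem hpow 2
      rw [conj_mul_fieldAut_pow] at hsqd
      refine ⟨(σ ^ d) ^ 2, fieldAut_mem_of_square hinn hsqd ?_, ?_⟩
      · have hdet : ((GeneralLinearGroup.det (FieldDescent.iterProd (σ ^ d) g₁ 2) : Fˣ) : F) =
            ((GeneralLinearGroup.det g₁ : Fˣ) : F) * (σ ^ d) ((GeneralLinearGroup.det g₁ : Fˣ) : F) := by
          simp only [FieldDescent.iterProd, mul_one, map_one, map_mul, Units.val_mul,
            GeneralLinearGroup.val_det_apply]
          congr 1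
          exact (RingHom.map_det _ _).symm
        rw [hdet]
        refine isSquare_mul_of_not hodd hsq fun ⟨r, hr⟩ => hsq ⟨(σ ^ d).symm r, ?_⟩
        apply (σ ^ d).injective
        rw [map_mul, RingEquiv.apply_symm_apply, hr]
      · rw [Nat.Coprime.orderOf_pow (by rw [hτo]; exact (Nat.coprime_primes hs Nat.prime_two).2 hs2), hτo]
        exact hs
  set s := orderOf τ with hsdef
  have hfs : orderOf (fieldAut τ : MulAut (PSLn 2 F)) = s := orderOf_fieldAut τ
  rcases hτ.eq_two_or_odd' with hs2 | hsodd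
  · -- order four from a unitriangular element
    obtain ⟨a, ha⟩ : ∃ a, τ a ≠ a := by
      by_contra! h
      have : τ = 1 := RingEquiv.ext h
      rw [hsdef, this, orderOf_one] at hs2
      omega
    have hK := card_eq_pow τ
    rw [← hsdef, hs2, Nat.card_eq_fintype_card] at hK
    have heven : Even (Fintype.card F) := by
      rcases hq with h | h | h
      · exact h
      all_goals
        exfalso
        rw [hK, Nat.pow_mod] at h
        have : Nat.card ↥(fixedField τ) % 8 < 8 := Nat.mod_lt _ (by norm_num)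
        generalize Nat.card ↥(fixedField τ) % 8 = r at h this
        interval_cases r <;> omega
    have hch : (2 : F) = 0 := by
      by_contra h2
      rw [Nat.even_iff] at heven
      exact absurd (FiniteField.odd_card_of_char_ne_two (F := F) fun hc => h2 (by
        haveI := ringChar.of_eq hc
        exact CharTwo.two_eq_zero)) (by omega)
    have hb : conj (uEl a) * fieldAut τ ∈ H :=
      H.mul_mem (conj_mem_of_det_one hinn (by rw [uEl, det_gl2]; ring)) hτH
    have hτ2 : τ ^ 2 = 1 := hs2 ▸ pow_orderOf_eq_one τ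
    have hord : orderOf (conj (uEl a) * fieldAut τ) = 2 ^ 2 := by
      refine orderOf_eq_prime_pow (p := 2) (n := 1) ?_ ?_
      · rw [pow_one, uEl_field_sq, hτ2, map_one, mul_one, conj_uEl_eq_one]
        intro e
        refine ha ?_
        linear_combination e - a * hch
      · rw [show (2 : ℕ) ^ (1 + 1) = 2 * 2 from rfl, pow_mul, uEl_field_sq, hτ2, map_one, mul_one,
          ← map_pow, pow_two, uEl_mul, conj_uEl_eq_one]
        linear_combination (a + τ a) * hch
    exact h4 _ hb (hord ▸ dvd_rfl)
  · -- the order is `p = 3`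
    have hcw := fieldAut_commute_conj τ (glField_wEl τ)
    have hsp : s = p := by
      have ho : orderOf (fieldAut τ * conj (wEl F)) = s * 2 := by
        rw [(show Commute (fieldAut τ) (conj (wEl F)) from hcw).orderOf_mul_eq_mul_orderOf_of_coprime
          (by rw [hfs, orderOf_wEl]; exact Nat.coprime_two_right.2 hsodd), hfs, orderOf_wEl]
      have := hτ.two_le
      rcases hev _ (H.mul_mem hτH (wEl_mem hinn)) (ho ▸ dvd_mul_left 2 s) with e | e <;> omega
    have hp3 : p = 3 := by
      by_contra hne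
      have ho : orderOf (fieldAut τ * conj (rEl F)) = p * 3 := by
        rw [(show Commute (fieldAut τ) (conj (rEl F)) from fieldAut_commute_conj τ (glField_rEl τ)).orderOf_mul_eq_mul_orderOf_of_coprime
          (by rw [hfs, hsp, orderOf_rEl]; exact (Nat.coprime_primes hp Nat.prime_three).2 hne), hfs, hsp,
          orderOf_rEl]
      have := hp.two_le
      rcases hdv _ (H.mul_mem hτH (rEl_mem hinn)) (ho ▸ dvd_mul_right p 3) with e | e <;> omega
    subst hp3
    have hτ3 : orderOf τ = 3 := hsp
    haveI := Fact.mk Nat.prime_three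
    have h9 : ∀ x ∈ H, ¬ 9 ∣ orderOf x := fun x hx h => by
      rcases hdv x hx ((show 3 ∣ 9 by norm_num).trans h) with e | e <;> rw [e] at h <;> norm_num at h
    by_cases hc3 : (3 : F) = 0
    · obtain ⟨a, ha⟩ := exists_trace_ne_zero hτ3
      refine h9 (conj (uEl a) * fieldAut τ)
        (H.mul_mem (conj_mem_of_det_one hinn (by rw [uEl, det_gl2]; ring)) hτH) ?_
      have h3' : τ ^ 3 = 1 := hτ3 ▸ pow_orderOf_eq_one τ
      have : orderOf (conj (uEl a) * fieldAut τ) = 3 ^ 2 := by
        refine orderOf_eq_prime_pow (p := 3) (n := 1) ?_ ?_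
        · rw [pow_one, uEl_field_cube, h3', map_one, mul_one, conj_uEl_eq_one]; exact ha
        · rw [show (3 : ℕ) ^ (1 + 1) = 3 * 3 from rfl, pow_mul, uEl_field_cube, h3', map_one, mul_one,
            ← map_pow, pow_succ, pow_two, uEl_mul, uEl_mul, conj_uEl_eq_one]
          linear_combination (a + τ a + τ (τ a)) * hc3
      rw [this]; norm_num
    · have hK := card_eq_pow τ
      rw [hτ3, Nat.card_eq_fintype_card] at hK
      set K := Nat.card ↥(fixedField τ)
      have hK3 : K % 3 ≠ 0 := by
        intro h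
        refine hc3 ?_
        have hd : 3 ∣ Fintype.card F := by rw [hK]; exact (Nat.dvd_of_mod_eq_zero h).trans (dvd_pow_self K (by norm_num))
        obtain ⟨r, hr⟩ := CharP.exists F
        obtain ⟨f, hr', hf⟩ := FiniteField.card F r
        have : 3 = r := (Nat.prime_dvd_prime_iff_eq Nat.prime_three hr').1
          (Nat.prime_three.dvd_of_dvd_pow (hf ▸ hd))
        subst this
        exact_mod_cast CharP.cast_eq_zero F 3
      have hmod : Fintype.card F % 9 = 1 ∨ Fintype.card F % 9 = 8 := by
        rw [hK, Nat.pow_mod]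
        have : K % 9 < 9 := Nat.mod_lt _ (by norm_num)
        have : K % 9 % 3 ≠ 0 := by omega
        generalize K % 9 = r at *
        interval_cases r <;> omega
      obtain ⟨x, hx⟩ : ∃ x : PSLn 2 F, 9 ∣ orderOf x := by
        have hg2 : ∀ m : ℕ, 9 ∣ m → Nat.gcd 2 (Fintype.card F - 1) ∣ m →
            9 ∣ m / Nat.gcd 2 (Fintype.card F - 1) := by
          intro m hm hg
          rcases (Nat.dvd_prime Nat.prime_two).1 (Nat.gcd_dvd_left 2 (Fintype.card F - 1)) with e | e <;>
            rw [e] at hg ⊢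
          · simpa using hm
          · omega
        rcases hmod with h | h
        · obtain ⟨x, hx⟩ := PSLSpectrum.exists_orderOf_psl_minus (F := F) hq4
          exact ⟨x, hx ▸ hg2 _ (by omega) (Nat.gcd_dvd_right _ _)⟩
        · obtain ⟨x, hx⟩ := PSLSpectrum.exists_orderOf_psl_plus (F := F)
          refine ⟨x, hx ▸ hg2 _ (by omega) ?_⟩
          have hg := Nat.gcd_dvd_right 2 (Fintype.card F - 1)
          have h2 := Nat.gcd_dvd_left 2 (Fintype.card F - 1)
          have := Nat.dvd_add hg h2
          rwa [show Fintype.card F - 1 + 2 = Fintype.card F + 1 by omega] at this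
      exact h9 _ (hinn ⟨x, rfl⟩) (by rwa [orderOf_injective _ hcenter])

end Cfsg.Agent.Lib.ThreeOrders24
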