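import Mathlib
import Cfsg.Agent.Lib.CIT.Basic

/-!
Groups in which no prime divides three different element orders: first consequences, and the
dichotomy into CIT groups and groups with an element of order `2p`.
-/

set_option autoImplicit false
set_option linter.unusedSectionVars false
set_option linter.style.haveILetI false

namespace Cfsg.Agent.Lib.ThreeOrders24

open Cfsg.Agent.Lib.CIT

/-- No prime divides three pairwise distinct element orders. -/
def AtMostTwo (G : Type*) [Group G] : Prop :=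
  ∀ p : ℕ, p.Prime → ∀ a b c : G, orderOf a ≠ orderOf b → orderOf b ≠ orderOf c →
    orderOf a ≠ orderOf c → ¬ (p ∣ orderOf a ∧ p ∣ orderOf b ∧ p ∣ orderOf c)

variable {G : Type*} [Group G] [Finite G]

/-- Every divisor of an element order is an element order. -/
theorem exists_orderOf_of_dvd (g : G) {d : ℕ} (hd : d ∣ orderOf g) : ∃ x : G, orderOf x = d := by
  obtain ⟨e, he⟩ := hd
  have hg : 0 < orderOf g := orderOf_pos g
  have he0 : e ≠ 0 := by rintro rfl; rw [mul_zero] at he; omega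
  refine ⟨g ^ e, ?_⟩
  rw [orderOf_pow_of_dvd he0 ⟨d, by rw [he, mul_comm]⟩, he, Nat.mul_div_cancel _ (Nat.pos_of_ne_zero he0)]

/-- Three distinct numbers dividing element orders cannot share a prime. -/
theorem not_three (h : AtMostTwo G) {p d e f : ℕ} (hp : p.Prime) (hd : ∃ g : G, d ∣ orderOf g)
    (he : ∃ g : G, e ∣ orderOf g) (hf : ∃ g : G, f ∣ orderOf g) (hde : d ≠ e) (hef : e ≠ f)
    (hdf : d ≠ f) (pd : p ∣ d) (pe : p ∣ e) (pf : p ∣ f) : False := by
  obtain ⟨g, hg⟩ := hd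
  obtain ⟨k, hk⟩ := he
  obtain ⟨l, hl⟩ := hf
  obtain ⟨a, rfl⟩ := exists_orderOf_of_dvd g hg
  obtain ⟨b, rfl⟩ := exists_orderOf_of_dvd k hk
  obtain ⟨c, rfl⟩ := exists_orderOf_of_dvd l hl
  exact h p hp a b c hde hef hdf ⟨pd, pe, pf⟩

theorem not_eight (h : AtMostTwo G) (g : G) : ¬ 8 ∣ orderOf g := fun h8 =>
  not_three h Nat.prime_two ⟨g, (show 2 ∣ 8 by norm_num).trans h8⟩
    ⟨g, (show 4 ∣ 8 by norm_num).trans h8⟩ ⟨g, h8⟩ (by norm_num) (by norm_num) (by norm_num)
    dvd_rfl (by norm_num) (by norm_num)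

/-- A number with three prime factors is no element order. -/
theorem length_le (h : AtMostTwo G) (g : G) {n : ℕ} (hn : n ∣ orderOf g) :
    n.primeFactorsList.length ≤ 2 := by
  by_contra hlen
  have hn0 : n ≠ 0 := by rintro rfl; simp at hlen
  obtain ⟨a, b, c, l, hl⟩ : ∃ a b c l, n.primeFactorsList = a :: b :: c :: l := by
    rcases he : n.primeFactorsList with _ | ⟨a, _ | ⟨b, _ | ⟨c, l⟩⟩⟩
    · rw [he] at hlen; simp at hlen
    · rw [he] at hlen; simp at hlen
    · rw [he] at hlen; simp at hlen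
    · exact ⟨a, b, c, l, rfl⟩
  have hpr : ∀ x ∈ n.primeFactorsList, x.Prime := fun x hx => Nat.prime_of_mem_primeFactorsList hx
  have hprod := Nat.prod_primeFactorsList hn0
  rw [hl] at hpr hprod
  simp only [List.prod_cons] at hprod
  have ha := hpr a (by simp)
  have hb := hpr b (by simp)
  have hc := hpr c (by simp)
  have h1 : a ∣ n := ⟨b * (c * l.prod), hprod.symm⟩
  have h2 : a * b ∣ n := ⟨c * l.prod, by rw [← hprod]; ring⟩
  have h3 : a * b * c ∣ n := ⟨l.prod, by rw [← hprod]; ring⟩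
  refine not_three h ha ⟨g, h1.trans hn⟩ ⟨g, h2.trans hn⟩ ⟨g, h3.trans hn⟩
    ?_ ?_ ?_ dvd_rfl (dvd_mul_right a b) ((dvd_mul_right a b).trans (dvd_mul_right _ c))
  · exact fun e => hb.one_lt.ne' (Nat.eq_of_mul_eq_mul_left ha.pos (by rw [mul_one]; exact e.symm))
  · exact fun e => hc.one_lt.ne'
      (Nat.eq_of_mul_eq_mul_left (Nat.mul_pos ha.pos hb.pos) (by rw [mul_one]; exact e.symm))
  · intro e
    have h4 : 1 < b * c := Nat.one_lt_mul_iff.2 ⟨hb.pos, hc.pos, Or.inl hb.one_lt⟩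
    exact h4.ne' (Nat.eq_of_mul_eq_mul_left ha.pos (by rw [mul_one, ← mul_assoc]; exact e.symm))

theorem AtMostTwo.subgroup (h : AtMostTwo G) (H : Subgroup G) : AtMostTwo H :=
  fun p hp a b c h1 h2 h3 hd => by
    rw [← Subgroup.orderOf_coe a, ← Subgroup.orderOf_coe b] at h1
    rw [← Subgroup.orderOf_coe b, ← Subgroup.orderOf_coe c] at h2
    rw [← Subgroup.orderOf_coe a, ← Subgroup.orderOf_coe c] at h3
    rw [← Subgroup.orderOf_coe a, ← Subgroup.orderOf_coe b, ← Subgroup.orderOf_coe c] at hd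
    exact h p hp a b c h1 h2 h3 hd

theorem AtMostTwo.of_surjective {H : Type*} [Group H] (h : AtMostTwo G) (f : G →* H)
    (hf : Function.Surjective f) : AtMostTwo H := by
  intro p hp a b c h1 h2 h3 hd
  obtain ⟨x, rfl⟩ := hf a
  obtain ⟨y, rfl⟩ := hf b
  obtain ⟨z, rfl⟩ := hf c
  exact not_three h hp ⟨x, orderOf_map_dvd f x⟩ ⟨y, orderOf_map_dvd f y⟩ ⟨z, orderOf_map_dvd f z⟩
    h1 h2 h3 hd.1 hd.2.1 hd.2.2

theorem AtMostTwo.of_mulEquiv {H : Type*} [Group H] (h : AtMostTwo G) (e : G ≃* H) : AtMostTwo H :=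
  h.of_surjective e.toMonoidHom e.surjective

/-- The orders divisible by `2` are `2` and `2p`, those divisible by `p` are `p` and `2p`. -/
structure EvenPair (G : Type*) [Group G] (p : ℕ) : Prop where
  prime : p.Prime
  ne_two : p ≠ 2
  exists_mem : ∃ g : G, orderOf g = 2 * p
  even_cases : ∀ g : G, 2 ∣ orderOf g → orderOf g = 2 ∨ orderOf g = 2 * p
  dvd_cases : ∀ g : G, p ∣ orderOf g → orderOf g = p ∨ orderOf g = 2 * p

theorem EvenPair.no_four {p : ℕ} (h : EvenPair G p) (g : G) : ¬ 4 ∣ orderOf g := by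
  intro h4
  rcases h.even_cases g ((show 2 ∣ 4 by norm_num).trans h4) with e | e
  · rw [e] at h4; norm_num at h4
  · rw [e] at h4
    have := Nat.dvd_of_mul_dvd_mul_left two_pos (show 2 * 2 ∣ 2 * p from h4)
    exact h.ne_two ((Nat.prime_dvd_prime_iff_eq Nat.prime_two h.prime).1 this).symm

/-- The two cases. -/
theorem cit_or_pair (h : AtMostTwo G) : IsCIT G ∨ ∃ p : ℕ, EvenPair G p := by
  classical
  haveI := Fact.mk Nat.prime_two
  by_cases hc : IsCIT G
  · exact Or.inl hc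
  refine Or.inr ?_
  unfold IsCIT at hc
  push Not at hc
  obtain ⟨t, ht, htp⟩ := hc
  obtain ⟨p, hp, hp2, hpd⟩ : ∃ p : ℕ, p.Prime ∧ p ≠ 2 ∧
      p ∣ Nat.card (Subgroup.centralizer ({t} : Set G)) := by
    by_contra! hall
    refine htp (IsPGroup.of_card (n := (Nat.card (Subgroup.centralizer ({t} : Set G))).primeFactorsList.length) ?_)
    exact Nat.eq_prime_pow_of_unique_prime_dvd Nat.card_pos.ne' fun {r} hr hrd =>
      by_contra fun h2 => hall r hr h2 hrd
  haveI := Fact.mk hp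
  obtain ⟨⟨y, hy⟩, hyo⟩ := exists_prime_orderOf_dvd_card' (G := Subgroup.centralizer ({t} : Set G)) p hpd
  rw [Subgroup.orderOf_mk] at hyo
  have hty : orderOf (t * y) = 2 * p := by
    rw [(show Commute t y from (Subgroup.mem_centralizer_singleton_iff.1 hy).symm).orderOf_mul_eq_mul_orderOf_of_coprime
      (by rw [ht, hyo]; exact (Nat.coprime_primes Nat.prime_two hp).2 hp2.symm), ht, hyo]
  refine ⟨p, hp, hp2, ⟨_, hty⟩, fun g hg => ?_, fun g hg => ?_⟩
  · by_contra! hcon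
    exact not_three h Nat.prime_two ⟨t, ht.symm.dvd⟩ ⟨t * y, hty.symm.dvd⟩ ⟨g, dvd_rfl⟩
      (fun e => hp.one_lt.ne' (by omega)) hcon.2.symm hcon.1.symm dvd_rfl (dvd_mul_right 2 p) hg
  · by_contra! hcon
    exact not_three h hp ⟨y, hyo.symm.dvd⟩ ⟨t * y, hty.symm.dvd⟩ ⟨g, dvd_rfl⟩
      (by have := hp.pos; omega) hcon.2.symm hcon.1.symm dvd_rfl (dvd_mul_left p 2) hg

end Cfsg.Agent.Lib.ThreeOrders24
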