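import Mathlib
import Cfsg.Agent.Lib.ThreeOrders24.AutTwo
import Cfsg.Agent.Lib.ThreeOrders24.AutThree
import Cfsg.Agent.Lib.ThreeOrders24.Basic

/-!
A normal projective special linear subgroup with trivial centralizer is the whole group.
-/

set_option autoImplicit false
set_option linter.unusedSectionVars false
set_option linter.style.haveILetI false

namespace Cfsg.Agent.Lib.ThreeOrders24

open Cfsg.Agent.Lib.PSLAut

variable {G : Type*} [Group G] [Finite G]

/-- Embedding into the automorphism group of a normal subgroup with trivial centralizer. -/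
theorem eq_top_of_aut (N : Subgroup G) [N.Normal]
    (hC : Subgroup.centralizer (N : Set G) = ⊥) {K : Type} [Group K] (e : N ≃* K)
    (h : ∀ φ : G →* MulAut K, Function.Injective φ →
      (MulAut.conj : K →* MulAut K).range ≤ φ.range → φ.range ≤ (MulAut.conj : K →* MulAut K).range) :
    N = ⊤ := by
  set φ : G →* MulAut K := (MulAut.congr e).toMonoidHom.comp MulAut.conjNormal with hφ
  have happ : ∀ (g : G) (k : K), φ g k = e (MulAut.conjNormal g (e.symm k)) := fun g k => rfl
  have hN : ∀ k : K, φ ((e.symm k : N) : G) = MulAut.conj k := fun k => MulEquiv.ext fun x => by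
    rw [happ, MulAut.conjNormal_val, MulAut.conj_apply, MulAut.conj_apply, map_mul, map_mul, map_inv,
      MulEquiv.apply_symm_apply, MulEquiv.apply_symm_apply]
  have hinj : Function.Injective φ := by
    refine (injective_iff_map_eq_one φ).2 fun g hg => ?_
    refine (Subgroup.mem_bot).1 (hC ▸ Subgroup.mem_centralizer_iff.2 fun x hx => ?_)
    have h1 : e (MulAut.conjNormal g (e.symm (e ⟨x, hx⟩))) = e ⟨x, hx⟩ := by
      rw [← happ, hg, MulAut.one_apply]
    rw [MulEquiv.symm_apply_apply] at h1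
    have h2 := congrArg Subtype.val (e.injective h1)
    rw [MulAut.conjNormal_apply] at h2
    exact (mul_inv_eq_iff_eq_mul.1 h2).symm
  refine (Subgroup.eq_top_iff' N).2 fun g => ?_
  obtain ⟨k, hk⟩ := h φ hinj (by rintro _ ⟨k, rfl⟩; exact ⟨_, hN k⟩) ⟨g, rfl⟩
  rw [← hN] at hk
  rw [← hinj hk]
  exact (e.symm k).2

theorem center_trivial_of (N : Subgroup G) (hC : Subgroup.centralizer (N : Set G) = ⊥) {K : Type}
    [Group K] (e : N ≃* K) : Function.Injective (MulAut.conj : K →* MulAut K) := by
  refine (injective_iff_map_eq_one _).2 fun k hk => ?_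
  have hc : ∀ x : N, e.symm k * x = x * e.symm k := by
    intro x
    apply e.injective
    have h1 : k * e x * k⁻¹ = e x := by
      rw [← MulAut.conj_apply, hk, MulAut.one_apply]
    rw [map_mul, map_mul, MulEquiv.apply_symm_apply]
    exact mul_inv_eq_iff_eq_mul.1 h1
  have hm : ((e.symm k : N) : G) ∈ Subgroup.centralizer (N : Set G) :=
    Subgroup.mem_centralizer_iff.2 fun x hx => (congrArg Subtype.val (hc ⟨x, hx⟩)).symm
  rw [hC, Subgroup.mem_bot] at hm
  have := congrArg e (Subtype.ext hm : e.symm k = 1)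
  rwa [MulEquiv.apply_symm_apply, map_one] at this

variable {F : Type} [Field F] [Fintype F]

theorem eq_top_small (N : Subgroup G) [N.Normal] (hC : Subgroup.centralizer (N : Set G) = ⊥)
    (e : N ≃* PSLn 2 F) (hq : Fintype.card F = 4 ∨ Fintype.card F = 7 ∨ Fintype.card F = 9)
    (hcit : CIT.IsCIT G) (h8 : ∀ g : G, ¬ 8 ∣ orderOf g) : N = ⊤ := by
  refine eq_top_of_aut N hC e fun φ hφ hinn => le_inn_small hinn hq
    (hcit.of_mulEquiv (MonoidHom.ofInjective hφ)) ?_
  rintro _ ⟨g, rfl⟩
  rw [orderOf_injective φ hφ]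
  exact h8 g

theorem eq_top_three (N : Subgroup G) [N.Normal] (hC : Subgroup.centralizer (N : Set G) = ⊥)
    (e : N ≃* PSLn 3 F) (hq : Fintype.card F = 4) (hcit : CIT.IsCIT G) : N = ⊤ :=
  eq_top_of_aut N hC e fun _ hφ hinn =>
    le_inn_three hq (hcit.of_mulEquiv (MonoidHom.ofInjective hφ)) hinn

theorem eq_top_pair (N : Subgroup G) [N.Normal] (hC : Subgroup.centralizer (N : Set G) = ⊥)
    (e : N ≃* PSLn 2 F) (hq4 : 4 ≤ Fintype.card F)
    (hq : Even (Fintype.card F) ∨ Fintype.card F % 8 = 3 ∨ Fintype.card F % 8 = 5) {p : ℕ}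
    (h : EvenPair G p) : N = ⊤ := by
  refine eq_top_of_aut N hC e fun φ hφ hinn => le_inn_pair hinn (center_trivial_of N hC e) hq4 hq
    h.prime h.ne_two ?_ ?_ ?_
  all_goals
    rintro _ ⟨g, rfl⟩
    rw [orderOf_injective φ hφ]
  · exact h.no_four g
  · exact h.even_cases g
  · exact h.dvd_cases g

end Cfsg.Agent.Lib.ThreeOrders24
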