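import Mathlib
import Cfsg.Prelude.Def_Solvable
import Cfsg.Agent.Lib.CIT.Basic
import Cfsg.Agent.Lib.CIT.QuotientTI
import Cfsg.Agent.Lib.Involution.BaerSuzuki
import Cfsg.Agent.Lib.PSolvable.Core

/-!
A CIT group without elements of order eight and with a nontrivial 2-core has no element of order
four modulo that core: such an element would act with a Jordan block of length four on the central
involutions of the core.
-/

set_option autoImplicit false
set_option linter.style.haveILetI false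

namespace Cfsg.Agent.Lib.ThreeOrders24

open Cfsg.Agent.Lib.CIT Cfsg.Agent.Lib.SECount

variable {X : Type*} [Group X] [Finite X]

/-- In a CIT group without elements of order eight, an order divisible by four is four. -/
theorem orderOf_eq_four (h : IsCIT X) (h8 : ∀ g : X, ¬ 8 ∣ orderOf g) {x : X}
    (h4 : 4 ∣ orderOf x) : orderOf x = 4 := by
  obtain ⟨k, m, hm, he⟩ := Nat.exists_eq_two_pow_mul_odd (orderOf_pos x).ne'
  have hk : 2 ≤ k := by
    by_contra hk
    rw [he] at h4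
    have : 2 ^ 2 ∣ 2 ^ k * m := by simpa using h4
    have := ((Nat.Coprime.pow_left 2 (Nat.coprime_two_left.2 hm)).dvd_of_dvd_mul_right this)
    have := (Nat.pow_dvd_pow_iff_le_right (by norm_num : 1 < 2)).1 this
    omega
  have hm1 : m = 1 := by
    have hy : orderOf (x ^ 2 ^ k) = m := by
      rw [orderOf_pow_of_dvd (by positivity) ⟨m, he⟩, he, Nat.mul_div_cancel_left _ (by positivity)]
    have hz : orderOf (x ^ m) = 2 ^ k := by
      rw [orderOf_pow_of_dvd hm.pos.ne' ⟨2 ^ k, by rw [he, mul_comm]⟩, he,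
        Nat.mul_div_cancel _ hm.pos]
    have h1 := h.eq_one_of_commute (x := x ^ m) (y := x ^ 2 ^ k) (k := k)
      (by rw [← hz]; exact pow_orderOf_eq_one _)
      (fun e => by
        rw [e, orderOf_one] at hz
        have := Nat.one_lt_pow (show k ≠ 0 by omega) (by norm_num : 1 < 2)
        omega)
      (hy ▸ hm) ((Commute.refl x).pow_pow _ _).eq
    rw [h1, orderOf_one] at hy
    exact hy.symm
  rw [hm1, mul_one] at he
  have : k = 2 := by
    by_contra hk2
    exact h8 x (he ▸ (show 2 ^ 3 ∣ 2 ^ k from pow_dvd_pow 2 (by omega)))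
  rw [he, this]; norm_num

/-- An involution outside the 2-core inverts a nontrivial element of odd order. -/
theorem exists_inverted {Q : Type*} [Group Q] [Finite Q] (hcore : Cfsg.pCore 2 Q = ⊥) {s : Q}
    (hs : orderOf s = 2) : ∃ h : Q, h ≠ 1 ∧ Odd (orderOf h) ∧ s * h * s⁻¹ = h⁻¹ := by
  haveI := Fact.mk Nat.prime_two
  obtain ⟨g, hg⟩ : ∃ g : Q, ¬ IsPGroup 2 (Subgroup.closure ({s, g * s * g⁻¹} : Set Q)) := by
    by_contra! hall
    obtain ⟨N, hN, hN2, hsN⟩ := Involution.baer_suzuki_element (p := 2) s hall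
    haveI := hN
    have := PSolvable.le_pCore hN2 hsN
    rw [hcore, Subgroup.mem_bot] at this
    exact invo_ne_one hs this
  set t := g * s * g⁻¹ with htdef
  have hss : s * s = 1 := invo_sq hs
  have htt : t * t = 1 := by
    calc t * t = g * (s * s) * g⁻¹ := by rw [htdef]; group
      _ = 1 := by rw [hss, mul_one, mul_inv_cancel]
  have hsi : s⁻¹ = s := inv_eq_of_mul_eq_one_right hss
  have hti : t⁻¹ = t := inv_eq_of_mul_eq_one_right htt
  have hinv : s * (s * t) * s⁻¹ = (s * t)⁻¹ := by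
    rw [mul_inv_rev, hti, hsi, ← mul_assoc, hss, one_mul]
  obtain ⟨k, m, hm, he⟩ := Nat.exists_eq_two_pow_mul_odd (orderOf_pos (s * t)).ne'
  refine ⟨(s * t) ^ 2 ^ k, fun e1 => hg ?_, ?_, ?_⟩
  · have hr : IsPGroup 2 (Subgroup.zpowers (s * t)) := by
      obtain ⟨j, -, hj⟩ := (Nat.dvd_prime_pow Nat.prime_two).1 (orderOf_dvd_of_pow_eq_one e1)
      exact IsPGroup.of_card (n := j) (by rw [Nat.card_zpowers, hj])
    have hs' : IsPGroup 2 (Subgroup.zpowers s) :=
      IsPGroup.of_card (n := 1) (by rw [Nat.card_zpowers, hs, pow_one])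
    have hn : Subgroup.zpowers s ≤ Subgroup.normalizer (Subgroup.zpowers (s * t) : Set Q) := by
      rw [Subgroup.zpowers_le, Subgroup.mem_normalizer_iff_map_conj_eq, MonoidHom.map_zpowers]
      show Subgroup.zpowers (s * (s * t) * s⁻¹) = _
      rw [hinv, Subgroup.zpowers_inv]
    refine (hr.to_sup_of_normal_left' hs' hn).to_le ((Subgroup.closure_le _).2 ?_)
    have hsm : s ∈ Subgroup.zpowers (s * t) ⊔ Subgroup.zpowers s :=
      Subgroup.mem_sup_right (Subgroup.mem_zpowers s)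
    rintro x (rfl | rfl)
    · exact hsm
    · have := mul_mem hsm (Subgroup.mem_sup_left (Subgroup.mem_zpowers (s * t))
        : s * t ∈ Subgroup.zpowers (s * t) ⊔ Subgroup.zpowers s)
      show t ∈ _
      have e3 : s * (s * t) = t := by rw [← mul_assoc, hss, one_mul]
      rwa [e3] at this
  · rw [orderOf_pow_of_dvd (by positivity) ⟨m, he⟩, he, Nat.mul_div_cancel_left _ (by positivity)]
    exact hm
  · rw [← conj_pow, hinv, inv_pow]

/-- No element of order four modulo a nontrivial 2-core. -/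
theorem not_four_quotient (h : IsCIT X) (h8 : ∀ g : X, ¬ 8 ∣ orderOf g)
    [(Cfsg.pCore 2 X).Normal] (hne : Cfsg.pCore 2 X ≠ ⊥) :
    ∀ q : X ⧸ Cfsg.pCore 2 X, ¬ 4 ∣ orderOf q := by
  haveI := Fact.mk Nat.prime_two
  set W := Cfsg.pCore 2 X with hWdef
  intro q hq4
  obtain ⟨d, hd⟩ := hq4
  have hd0 : d ≠ 0 := by
    rintro rfl
    exact (orderOf_pos q).ne' (by rw [hd, mul_zero])
  obtain ⟨x, hx⟩ := QuotientGroup.mk_surjective (q ^ d)
  have hq1 : orderOf (q ^ d) = 4 := by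
    rw [orderOf_pow_of_dvd hd0 ⟨4, by rw [hd, mul_comm]⟩, hd, Nat.mul_div_cancel _ (Nat.pos_of_ne_zero hd0)]
  have hlift : ∀ w ∈ W, orderOf (x * w) = 4 := fun w hw => by
    refine orderOf_eq_four h h8 ?_
    have h1 := orderOf_map_dvd (QuotientGroup.mk' W) (x * w)
    rwa [QuotientGroup.mk'_apply, QuotientGroup.mk_mul, (QuotientGroup.eq_one_iff w).2 hw, mul_one,
      hx, hq1] at h1
  have hx4 : orderOf x = 4 := by simpa using hlift 1 W.one_mem
  have hs : orderOf (x * x) = 2 := by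
    rw [← pow_two, orderOf_pow_of_dvd two_ne_zero (by rw [hx4]; norm_num), hx4]
  have hsW : x * x ∉ W := fun hm => by
    have h1 : (q ^ d) ^ 2 = 1 := by
      rw [← hx, ← QuotientGroup.mk_pow, QuotientGroup.eq_one_iff, pow_two]; exact hm
    have := Nat.le_of_dvd two_pos (hq1 ▸ orderOf_dvd_of_pow_eq_one h1)
    omega
  have hsbar : orderOf ((x * x : X) : X ⧸ W) = 2 := by
    refine orderOf_eq_prime ?_ (fun e => hsW ((QuotientGroup.eq_one_iff _).1 e))
    rw [← QuotientGroup.mk_pow, pow_two, invo_sq hs]; rfl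
  obtain ⟨hb, hb1, hbo, hbinv⟩ := exists_inverted PSolvable.pCore_quotient_eq_bot hsbar
  obtain ⟨h₀, rfl⟩ := QuotientGroup.mk_surjective hb
  obtain ⟨k, m, hm, he⟩ := Nat.exists_eq_two_pow_mul_odd (orderOf_pos h₀).ne'
  set y := h₀ ^ 2 ^ k with hydef
  have hyo : Odd (orderOf y) := by
    rw [hydef, orderOf_pow_of_dvd (by positivity) ⟨m, he⟩, he,
      Nat.mul_div_cancel_left _ (by positivity)]
    exact hm
  have hy1 : y ≠ 1 := fun e => hb1 (by
    have h1 : (h₀ : X ⧸ W) ^ 2 ^ k = 1 := by rw [← QuotientGroup.mk_pow, ← hydef, e]; rfl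
    obtain ⟨j, -, hj⟩ := (Nat.dvd_prime_pow Nat.prime_two).1 (orderOf_dvd_of_pow_eq_one h1)
    rw [hj] at hbo
    rcases j with _ | j
    · exact orderOf_eq_one_iff.1 (by simpa using hj)
    · exact absurd hbo (Nat.not_odd_iff_even.2 (by simp [Nat.pow_succ])))
  set s := x * x with hsdef
  have hw₀ : s * y * s⁻¹ * y ∈ W := by
    rw [← QuotientGroup.eq_one_iff]
    have h1 : ((s * y * s⁻¹ : X) : X ⧸ W) = ((y : X) : X ⧸ W)⁻¹ := by
      rw [hydef, QuotientGroup.mk_mul, QuotientGroup.mk_mul, QuotientGroup.mk_inv, QuotientGroup.mk_pow,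
        ← conj_pow, hbinv, inv_pow]
    rw [QuotientGroup.mk_mul, h1, inv_mul_cancel]
  have hy2 : ∀ z ∈ W, z * z = 1 → (y * y) * z = z * (y * y) → z = 1 := by
    intro z _ hz hc
    by_contra hz1
    have hy2o : Odd (orderOf (y * y)) :=
      hyo.of_dvd_nat (by rw [← pow_two]; exact orderOf_pow_dvd 2)
    have h1 := h.eq_one_of_commute (k := 1) (by rw [pow_one, pow_two]; exact hz) hz1 hy2o hc.symm
    have h2 := orderOf_dvd_of_pow_eq_one (show y ^ 2 = 1 by rw [pow_two]; exact h1)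
    rcases (Nat.dvd_prime Nat.prime_two).1 h2 with e | e
    · exact hy1 (orderOf_eq_one_iff.1 e)
    · rw [e] at hyo; exact absurd hyo (by decide)
  -- the central involutions of `W`
  let W₀ : Subgroup X :=
    { carrier := {z | z ∈ W ∧ z * z = 1 ∧ ∀ w ∈ W, z * w = w * z}
      one_mem' := ⟨W.one_mem, one_mul 1, fun w _ => by simp⟩
      mul_mem' := fun {a b} ha hb => ⟨W.mul_mem ha.1 hb.1, by
        calc a * b * (a * b) = a * (b * a) * b := by group
          _ = a * a * (b * b) := by rw [← ha.2.2 b hb.1]; group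
          _ = 1 := by rw [ha.2.1, hb.2.1, one_mul], fun w hw => by
        rw [mul_assoc, hb.2.2 w hw, ← mul_assoc, ha.2.2 w hw, mul_assoc]⟩
      inv_mem' := fun {a} ha => by
        rw [inv_eq_of_mul_eq_one_right ha.2.1]; exact ha }
  have hW : IsPGroup 2 W := PSolvable.pCore_isPGroup
  obtain ⟨z₀, hz₀, hz₀1⟩ : ∃ z ∈ W₀, z ≠ 1 := by
    haveI : Nontrivial W := (Subgroup.nontrivial_iff_ne_bot W).2 hne
    haveI := hW.center_nontrivial
    obtain ⟨z, hz, hz2⟩ := twoGroup_invo (G := W) (hW.to_subgroup (Subgroup.center W))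
      ((Subgroup.nontrivial_iff_ne_bot _).1 inferInstance)
    refine ⟨z, ⟨z.2, congrArg Subtype.val (invo_sq hz2), fun w hw => ?_⟩,
      fun e => invo_ne_one hz2 (Subtype.ext e)⟩
    exact (congrArg Subtype.val (Subgroup.mem_center_iff.1 hz ⟨w, hw⟩)).symm
  have hcomm : ∀ a ∈ W₀, ∀ b ∈ W₀, a * b = b * a := fun a ha b hb => ha.2.2 b hb.1
  have hnorm : ∀ g : X, ∀ z ∈ W₀, g * z * g⁻¹ ∈ W₀ := by
    rintro g z ⟨hzW, hz2, hzc⟩
    refine ⟨‹W.Normal›.conj_mem z hzW g, ?_, fun w hw => ?_⟩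
    · calc g * z * g⁻¹ * (g * z * g⁻¹) = g * (z * z) * g⁻¹ := by group
        _ = 1 := by rw [hz2, mul_one, mul_inv_cancel]
    · have h1 := hzc _ (‹W.Normal›.conj_mem w hw g⁻¹)
      rw [inv_inv] at h1
      calc g * z * g⁻¹ * w = g * (z * (g⁻¹ * w * g)) * g⁻¹ := by group
        _ = w * (g * z * g⁻¹) := by rw [h1]; group
  -- conjugation of `W₀` by `y` is inverted by `s`
  have hsy : ∀ z ∈ W₀, s * (y * z * y⁻¹) * s⁻¹ = y⁻¹ * (s * z * s⁻¹) * y := by
    intro z hz
    have hu : y⁻¹ * (s * z * s⁻¹) * y ∈ W₀ := by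
      simpa using hnorm y⁻¹ _ (hnorm s z hz)
    calc s * (y * z * y⁻¹) * s⁻¹
        = (s * y * s⁻¹ * y) * (y⁻¹ * (s * z * s⁻¹) * y) * (s * y * s⁻¹ * y)⁻¹ := by group
      _ = y⁻¹ * (s * z * s⁻¹) * y := by
          rw [← hu.2.2 _ hw₀, mul_inv_cancel_right]
  -- the relation from the order of `x * w`
  have hrel : ∀ w ∈ W₀, (x * w * x⁻¹) * (s * w * s⁻¹) * (x * (s * w * s⁻¹) * x⁻¹) * w = 1 := by
    intro w hw
    have hx4' : s * s = 1 := invo_sq hs
    have h1 : (x * w) ^ 4 = 1 := hlift w hw.1 ▸ pow_orderOf_eq_one (x * w)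
    rw [← h1]
    calc (x * w * x⁻¹) * (s * w * s⁻¹) * (x * (s * w * s⁻¹) * x⁻¹) * w
        = (x * w * x⁻¹) * (s * w * s⁻¹) * (x * (s * w * s⁻¹) * x⁻¹) * (s * s * w * (s * s)⁻¹) * (s * s) := by
          rw [hx4']; group
      _ = (x * w) ^ 4 := by rw [hsdef]; simp only [pow_succ, pow_zero]; group
  -- the fixed points of `s` are fixed by `x`
  let C : Type _ := {z : X // z ∈ W₀ ∧ s * z * s⁻¹ = z}
  have hCx : ∀ z ∈ W₀, s * z * s⁻¹ = z → x * z * x⁻¹ = z := by
    intro z hz hzs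
    let f : C → C := fun c => ⟨(y * c.1 * y⁻¹) * (y⁻¹ * c.1 * y),
      W₀.mul_mem (hnorm y _ c.2.1) (by simpa using hnorm y⁻¹ _ c.2.1), by
        have e1 := hsy c.1 c.2.1
        rw [c.2.2] at e1
        have hs2 : s⁻¹ = s := invo_inv hs
        have e2 : s * (y⁻¹ * c.1 * y) * s⁻¹ = y * c.1 * y⁻¹ := by
          rw [← e1]
          calc s * (s * (y * c.1 * y⁻¹) * s⁻¹) * s⁻¹
              = (s * s) * (y * c.1 * y⁻¹) * (s * s)⁻¹ := by group
            _ = y * c.1 * y⁻¹ := by rw [invo_sq hs]; group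
        calc s * ((y * c.1 * y⁻¹) * (y⁻¹ * c.1 * y)) * s⁻¹
            = (s * (y * c.1 * y⁻¹) * s⁻¹) * (s * (y⁻¹ * c.1 * y) * s⁻¹) := by group
          _ = _ := by
            rw [e1, e2]
            exact hcomm _ (by simpa using hnorm y⁻¹ _ c.2.1) _ (hnorm y _ c.2.1)⟩
    have hinj : Function.Injective f := by
      intro a b e
      have e' := congrArg Subtype.val e
      simp only [f] at e'
      have hab : a.1 * b.1 ∈ W₀ := W₀.mul_mem a.2.1 b.2.1
      have h1 : (y * (a.1 * b.1) * y⁻¹) * (y⁻¹ * (a.1 * b.1) * y) = 1 := by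
        have ha : ∀ c ∈ W₀, c⁻¹ = c := fun c hc => inv_eq_of_mul_eq_one_right hc.2.1
        have hA := hnorm y _ a.2.1
        have hB := hnorm y _ b.2.1
        have hA' : y⁻¹ * a.1 * y ∈ W₀ := by simpa using hnorm y⁻¹ _ a.2.1
        have hB' : y⁻¹ * b.1 * y ∈ W₀ := by simpa using hnorm y⁻¹ _ b.2.1
        calc (y * (a.1 * b.1) * y⁻¹) * (y⁻¹ * (a.1 * b.1) * y)
            = (y * a.1 * y⁻¹) * ((y * b.1 * y⁻¹) * (y⁻¹ * a.1 * y)) * (y⁻¹ * b.1 * y) := by group
          _ = ((y * a.1 * y⁻¹) * (y⁻¹ * a.1 * y)) * ((y * b.1 * y⁻¹) * (y⁻¹ * b.1 * y)) := by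
            rw [hcomm _ hB _ hA']; group
          _ = _ := by rw [e']; exact (W₀.mul_mem hB hB').2.1
      have h2 : (y * y) * (a.1 * b.1) = (a.1 * b.1) * (y * y) := by
        have h3 : y⁻¹ * (a.1 * b.1) * y = y * (a.1 * b.1) * y⁻¹ := by
          have := eq_inv_of_mul_eq_one_right h1
          rw [this, inv_eq_of_mul_eq_one_right (hnorm y _ hab).2.1]
        calc (y * y) * (a.1 * b.1) = y * (y * (a.1 * b.1) * y⁻¹) * y := by group
          _ = (a.1 * b.1) * (y * y) := by rw [← h3]; group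
      have h4 := hy2 _ hab.1 hab.2.1 h2
      exact Subtype.ext (by
        rw [← inv_eq_of_mul_eq_one_right b.2.1.2.1]
        exact eq_inv_of_mul_eq_one_left h4)
    obtain ⟨c, hc⟩ := (Finite.injective_iff_surjective.1 hinj) ⟨z, hz, hzs⟩
    have hc' : (y * c.1 * y⁻¹) * (y⁻¹ * c.1 * y) = z := congrArg Subtype.val hc
    set u := y * c.1 * y⁻¹ with hu
    have huW : u ∈ W₀ := hnorm y _ c.2.1
    have hsu : s * u * s⁻¹ = y⁻¹ * c.1 * y := by rw [hu, hsy _ c.2.1, c.2.2]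
    have hzu : z = u * (s * u * s⁻¹) := by rw [hsu]; exact hc'.symm
    have h5 := hrel u huW
    have hA := hnorm x _ huW
    have hB := hnorm s _ huW
    have hC := hnorm x _ hB
    have h6 : (x * u * x⁻¹) * (x * (s * u * s⁻¹) * x⁻¹) * (u * (s * u * s⁻¹)) = 1 := by
      rw [← h5]
      calc (x * u * x⁻¹) * (x * (s * u * s⁻¹) * x⁻¹) * (u * (s * u * s⁻¹))
          = (x * u * x⁻¹) * ((x * (s * u * s⁻¹) * x⁻¹) * (u * (s * u * s⁻¹))) := by group
        _ = (x * u * x⁻¹) * ((x * (s * u * s⁻¹) * x⁻¹) * ((s * u * s⁻¹) * u)) := by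
            rw [hcomm _ huW _ hB]
        _ = (x * u * x⁻¹) * (((x * (s * u * s⁻¹) * x⁻¹) * (s * u * s⁻¹)) * u) := by group
        _ = _ := by rw [hcomm _ hC _ hB]; group
    have h7 := eq_inv_of_mul_eq_one_left h6
    calc x * z * x⁻¹ = (x * u * x⁻¹) * (x * (s * u * s⁻¹) * x⁻¹) := by rw [hzu]; group
      _ = z := by
        rw [h7, ← hzu]
        exact inv_eq_of_mul_eq_one_right hz.2.1
  have hall : ∀ w ∈ W₀, s * w * s⁻¹ = w := by
    intro w hw
    set a := x * w * x⁻¹ with ha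
    have haW : a ∈ W₀ := hnorm x w hw
    have hbW : s * w * s⁻¹ ∈ W₀ := hnorm s w hw
    have hsa : s * a * s⁻¹ = x * (s * w * s⁻¹) * x⁻¹ := by rw [ha, hsdef]; group
    have hcW : x * (s * w * s⁻¹) * x⁻¹ ∈ W₀ := hnorm x _ hbW
    have hfix : s * (w * a) * s⁻¹ = w * a := by
      have h5 := hrel w hw
      have h6 : (s * w * s⁻¹) * (x * (s * w * s⁻¹) * x⁻¹) * (w * a) = 1 := by
        calc (s * w * s⁻¹) * (x * (s * w * s⁻¹) * x⁻¹) * (w * a)
            = ((s * w * s⁻¹) * (x * (s * w * s⁻¹) * x⁻¹) * w) * a := by group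
          _ = a * ((s * w * s⁻¹) * (x * (s * w * s⁻¹) * x⁻¹) * w) :=
            hcomm _ (W₀.mul_mem (W₀.mul_mem hbW hcW) hw) _ haW
          _ = 1 := by rw [← h5, ha]; group
      have h7 := eq_inv_of_mul_eq_one_left h6
      calc s * (w * a) * s⁻¹ = (s * w * s⁻¹) * (s * a * s⁻¹) := by group
        _ = (w * a) := by
          rw [hsa, h7]; exact inv_eq_of_mul_eq_one_right (W₀.mul_mem hw haW).2.1
    have h8' := hCx _ (W₀.mul_mem hw haW) hfix
    have h9 : a * (s * w * s⁻¹) = w * a := by rw [← h8', ha, hsdef]; group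
    rw [hcomm _ hw _ haW] at h9
    exact mul_left_cancel h9
  refine hz₀1 (hy2 z₀ hz₀.1 hz₀.2.1 ?_)
  have h1 := hsy z₀ hz₀
  rw [hall z₀ hz₀, hall _ (hnorm y z₀ hz₀)] at h1
  calc (y * y) * z₀ = y * (y * z₀ * y⁻¹) * y := by group
    _ = z₀ * (y * y) := by rw [h1]; group

end Cfsg.Agent.Lib.ThreeOrders24
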