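import Mathlib
import Cfsg.Agent.Lib.ThreeOrders24.Basic
import Cfsg.Agent.Lib.Burnside.Paqb
import Cfsg.Agent.S0205

/-!
Elementary facts for groups with an element of order `2p` whose even orders are `2, 2p` and whose
orders divisible by `p` are `p, 2p`.
-/

set_option autoImplicit false
set_option linter.unusedSectionVars false
set_option linter.style.haveILetI false

namespace Cfsg.Agent.Lib.ThreeOrders24

open Cfsg.Agent.Lib

universe u

variable {X : Type u} [Group X] [Finite X]

/-- A group whose order has only the primes `2` and `p` is solvable. -/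
theorem isSolvable_of_primes {p : ℕ} (hp : p.Prime) (hp2 : p ≠ 2)
    (h : ∀ s : ℕ, s.Prime → s ∣ Nat.card X → s = 2 ∨ s = p) : Group.IsSolvable X := by
  obtain ⟨a, m, hm, hma⟩ :=
    Nat.exists_eq_pow_mul_and_not_dvd (Nat.card_pos (α := X)).ne' 2 (by norm_num)
  have hm0 : m ≠ 0 := fun h0 => hm (h0 ▸ dvd_zero 2)
  have hmp := Nat.eq_prime_pow_of_unique_prime_dvd (p := p) hm0 fun {r} hr hrd =>
    (h r hr (by rw [hma]; exact hrd.mul_left _)).resolve_left fun e => hm (e ▸ hrd)
  haveI := Fact.mk hp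
  haveI := Fact.mk Nat.prime_two
  exact Burnside.isSolvable_of_card_eq_prime_pow_mul (G := X) Nat.prime_two hp
    (a := a) (b := m.primeFactorsList.length) (by rw [hma, ← hmp])

theorem even_of_not_solvable (hns : ¬ Group.IsSolvable X) : 2 ∣ Nat.card X := by
  by_contra h
  exact hns (Cfsg.Agent.S0205.result (Nat.odd_iff.2 (Nat.two_dvd_ne_zero.1 h)))

/-- In a nonsolvable group a Sylow 2-subgroup is not central in its normalizer. -/
theorem not_normalizer_le_centralizer (hns : ¬ Group.IsSolvable X) (P : Sylow 2 X) :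
    ¬ Subgroup.normalizer ((P : Subgroup X) : Set X) ≤ Subgroup.centralizer ((P : Subgroup X) : Set X) := by
  haveI := Fact.mk Nat.prime_two
  intro hNC
  have hnd := MonoidHom.not_dvd_card_ker_transferSylow P hNC
  set f := MonoidHom.transferSylow P hNC
  haveI : Group.IsSolvable f.ker := Cfsg.Agent.S0205.result (Nat.odd_iff.2 (Nat.two_dvd_ne_zero.1 hnd))
  haveI : Group.IsNilpotent (P : Subgroup X) := P.isPGroup'.isNilpotent
  haveI : Group.IsSolvable (P : Subgroup X) := inferInstance
  exact hns (Group.isSolvable_of_ker_le_range f.ker.subtype f (by rw [Subgroup.range_subtype]))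

/-- The image of the normalizer of a Sylow subgroup. -/
theorem map_sylow_normalizer {G : Type u} [Group G] [Finite G] {H : Type*} [Group H] (f : G →* H) (hf : Function.Surjective f)
    {p : ℕ} [Fact p.Prime] (P : Sylow p G) :
    (Subgroup.normalizer ((P : Subgroup G) : Set G)).map f =
      Subgroup.normalizer (((P : Subgroup G).map f : Subgroup H) : Set H) := by
  refine le_antisymm (Subgroup.le_normalizer_map _) fun b hb => ?_
  obtain ⟨g, rfl⟩ := hf b
  set L : Subgroup G := ((P : Subgroup G).map f).comap f with hL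
  have h1 : (P : Subgroup G) ≤ L := Subgroup.le_comap_map _ _
  have h2 : ((g • P : Sylow p G) : Subgroup G) ≤ L := by
    intro x hx
    obtain ⟨y, hy, rfl⟩ := Subgroup.mem_map.mp
      (show x ∈ (P : Subgroup G).map (MulAut.conj g).toMonoidHom from hx)
    have := (Subgroup.mem_normalizer_iff.mp hb (f y)).mp (Subgroup.mem_map_of_mem f hy)
    simpa [hL, map_mul, map_inv] using this
  obtain ⟨h, hh⟩ := MulAction.exists_smul_eq L ((g • P).subtype h2) (P.subtype h1)
  have hh' : ((h : G) * g) • P = P := by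
    rw [mul_smul]
    exact Sylow.subtype_injective (hP := Subgroup.conj_smul_le_of_le h2 h) (hQ := h1) ((Sylow.smul_subtype h2 h).symm.trans hh)
  obtain ⟨x, hx, hfx⟩ := Subgroup.mem_map.mp (show f (h : G) ∈ (P : Subgroup G).map f from h.2)
  refine ⟨x⁻¹ * ((h : G) * g), mul_mem (inv_mem (Subgroup.le_normalizer hx))
    (Sylow.smul_eq_iff_mem_normalizer.mp hh'), ?_⟩
  rw [map_mul, map_mul, map_inv, hfx, inv_mul_cancel_left]

variable {p : ℕ}

theorem EvenPair.sq_eq_one (h : EvenPair X p) {P : Subgroup X} (hP : IsPGroup 2 P) {x : X}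
    (hx : x ∈ P) : x * x = 1 := by
  obtain ⟨k, hk⟩ := (IsPGroup.iff_orderOf.1 hP) ⟨x, hx⟩
  rw [Subgroup.orderOf_mk] at hk
  rcases Nat.lt_or_ge k 2 with hk2 | hk2
  · rw [← pow_two, ← orderOf_dvd_iff_pow_eq_one, hk]
    interval_cases k <;> norm_num
  · exact absurd (hk ▸ pow_dvd_pow 2 hk2) (h.no_four x)

theorem EvenPair.comm_of_two (h : EvenPair X p) {P : Subgroup X} (hP : IsPGroup 2 P) {x y : X}
    (hx : x ∈ P) (hy : y ∈ P) : x * y = y * x := by
  have hi : ∀ z ∈ P, z⁻¹ = z := fun z hz => inv_eq_of_mul_eq_one_right (h.sq_eq_one hP hz)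
  have := hi _ (P.mul_mem hx hy)
  rw [_root_.mul_inv_rev, hi x hx, hi y hy] at this
  exact this.symm

theorem EvenPair.exists_order_two (h : EvenPair X p) {P : Subgroup X} (hP : IsPGroup 2 P) {x : X}
    (hx : x ∈ P) (hx1 : x ≠ 1) : orderOf x = 2 :=
  haveI := Fact.mk Nat.prime_two
  orderOf_eq_prime (by rw [pow_two, h.sq_eq_one hP hx]) hx1

/-- An odd prime order element centralising an involution has order `p`. -/
theorem EvenPair.eq_of_commute_invo (h : EvenPair X p) {t y : X} {s : ℕ} (ht : orderOf t = 2)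
    (hy : orderOf y = s) (hs : s.Prime) (hs2 : s ≠ 2) (hc : Commute t y) : s = p := by
  have ho : orderOf (t * y) = 2 * s := by
    rw [hc.orderOf_mul_eq_mul_orderOf_of_coprime
      (by rw [ht, hy]; exact (Nat.coprime_primes Nat.prime_two hs).2 (Ne.symm hs2)), ht, hy]
  rcases h.even_cases _ (ho ▸ dvd_mul_right 2 s) with e | e <;> rw [ho] at e
  · exact absurd hs.one_lt (by omega)
  · omega

/-- An odd prime order element centralising an element of order `p` has order `p`. -/
theorem EvenPair.eq_of_commute_p (h : EvenPair X p) {v y : X} {s : ℕ} (hv : orderOf v = p)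
    (hy : orderOf y = s) (hs : s.Prime) (hs2 : s ≠ 2) (hc : Commute v y) : s = p := by
  by_contra hne
  have ho : orderOf (v * y) = p * s := by
    rw [hc.orderOf_mul_eq_mul_orderOf_of_coprime
      (by rw [hv, hy]; exact (Nat.coprime_primes h.prime hs).2 (Ne.symm hne)), hv, hy]
  rcases h.dvd_cases _ (ho ▸ dvd_mul_right p s) with e | e <;> rw [ho] at e
  · exact hs.one_lt.ne' (Nat.eq_of_mul_eq_mul_left h.prime.pos (e.trans (mul_one p).symm))
  · exact hs2 (Nat.eq_of_mul_eq_mul_left h.prime.pos (e.trans (mul_comm 2 p)))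

/-- A `p`-element has order `1` or `p`. -/
theorem EvenPair.pow_p_eq_one (h : EvenPair X p) {w : X} {k : ℕ} (hw : w ^ p ^ k = 1) : w ^ p = 1 := by
  obtain ⟨i, -, hi⟩ := (Nat.dvd_prime_pow h.prime).1 (orderOf_dvd_of_pow_eq_one hw)
  rcases i with _ | i
  · have h1 : orderOf w = 1 := by simpa using hi
    rw [orderOf_eq_one_iff.1 h1, one_pow]
  rcases h.dvd_cases w (hi ▸ dvd_pow_self p (Nat.succ_ne_zero i)) with e | e
  · rw [← e]; exact pow_orderOf_eq_one w
  · exfalso
    have h2 : 2 ∣ p ^ (i + 1) := hi ▸ e ▸ dvd_mul_right 2 p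
    exact h.ne_two ((Nat.prime_dvd_prime_iff_eq Nat.prime_two h.prime).1
      (Nat.prime_two.dvd_of_dvd_pow h2)).symm

/-- A subgroup whose odd prime order elements centralise an involution or an element of order `p`
is solvable. -/
theorem EvenPair.isSolvable_centralizer (h : EvenPair X p) {K : Subgroup X} {v : X}
    (hv : orderOf v = 2 ∨ orderOf v = p) (hK : ∀ y ∈ K, Commute v y) : Group.IsSolvable K := by
  refine isSolvable_of_primes h.prime h.ne_two fun s hs hsd => ?_
  rcases eq_or_ne s 2 with e | hs2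
  · exact Or.inl e
  refine Or.inr ?_
  haveI := Fact.mk hs
  obtain ⟨⟨y, hy⟩, hys⟩ := exists_prime_orderOf_dvd_card' (G := K) s hsd
  rw [Subgroup.orderOf_mk] at hys
  rcases hv with hv | hv
  · exact h.eq_of_commute_invo hv hys hs hs2 (hK y hy)
  · exact h.eq_of_commute_p hv hys hs hs2 (hK y hy)

/-- Two commuting distinct involutions. -/
theorem EvenPair.exists_four (h : EvenPair X p) (hns : ¬ Group.IsSolvable X) :
    ∃ s t : X, orderOf s = 2 ∧ orderOf t = 2 ∧ s ≠ t ∧ Commute s t := by
  haveI := Fact.mk Nat.prime_two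
  obtain ⟨P⟩ : Nonempty (Sylow 2 X) := inferInstance
  obtain ⟨s, hs, hs1⟩ : ∃ s ∈ (P : Subgroup X), s ≠ 1 := by
    by_contra! hall
    refine not_normalizer_le_centralizer hns P fun n _ => Subgroup.mem_centralizer_iff.2 fun a ha => ?_
    have ha' : a = 1 := hall a ha
    rw [ha', one_mul, mul_one]
  obtain ⟨t, ht, ht1, hts⟩ : ∃ t ∈ (P : Subgroup X), t ≠ 1 ∧ s ≠ t := by
    by_contra! hall
    refine not_normalizer_le_centralizer hns P fun n hn => Subgroup.mem_centralizer_iff.2 fun a ha => ?_
    rcases eq_or_ne a 1 with rfl | ha1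
    · rw [one_mul, mul_one]
    obtain rfl := hall a ha ha1
    have hm : n * s * n⁻¹ ∈ (P : Subgroup X) := (Subgroup.mem_normalizer_iff.1 hn s).1 hs
    have := hall _ hm fun e => hs1 (conj_eq_one_iff.1 e)
    exact eq_mul_inv_iff_mul_eq.1 this
  exact ⟨s, t, h.exists_order_two P.isPGroup' hs hs1, h.exists_order_two P.isPGroup' ht ht1, hts,
    h.comm_of_two P.isPGroup' hs ht⟩

end Cfsg.Agent.Lib.ThreeOrders24
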