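import Mathlib
import Cfsg.Agent.Lib.ThreeOrders24.PairBasic
import Cfsg.Agent.Lib.MinimalNormal
import Cfsg.Agent.Lib.PSolvable.Core

/-!
A nonsolvable group with `EvenPair` has no nontrivial solvable normal subgroup: an odd element
`z` normalising a Sylow 2-subgroup averages over its conjugates `c * z`.
-/

set_option autoImplicit false
set_option linter.unusedSectionVars false
set_option linter.style.haveILetI false

namespace Cfsg.Agent.Lib.ThreeOrders24

open Cfsg.Agent.Lib Finset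

universe u

variable {X : Type u} [Group X] [Finite X] {p : ℕ}

theorem prime_pow_injective {s j : ℕ} (hs : s.Prime) (hj : 0 < j) (hjs : j < s) {a b : X}
    (ha : a ^ s = 1) (hb : b ^ s = 1) (h : a ^ j = b ^ j) : a = b := by
  obtain ⟨k, hk⟩ := Nat.exists_mul_mod_eq_one_of_coprime
    (show Nat.Coprime j s from ((hs.coprime_iff_not_dvd).2 (Nat.not_dvd_of_pos_of_lt hj hjs)).symm)
    hs.one_lt
  have key : ∀ c : X, c ^ s = 1 → (c ^ j) ^ k = c := fun c hc => by
    rw [← pow_mul, pow_eq_pow_mod _ hc, hk.2, pow_one]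
  rw [← key a ha, ← key b hb, h]

/-- `(c * z) ^ j * (z ^ j)⁻¹` stays in a subgroup normalised by `z`. -/
theorem mul_pow_mem {A : Subgroup X} {z c : X} (hz : ∀ d ∈ A, z * d * z⁻¹ ∈ A) (hc : c ∈ A) :
    ∀ j : ℕ, (c * z) ^ j * (z ^ j)⁻¹ ∈ A := by
  intro j
  induction j with
  | zero => simp
  | succ j ih =>
    have := A.mul_mem hc (hz _ ih)
    rwa [pow_succ' (c * z), pow_succ' z, _root_.mul_inv_rev,
      show c * z * (c * z) ^ j * ((z ^ j)⁻¹ * z⁻¹) = c * (z * ((c * z) ^ j * (z ^ j)⁻¹) * z⁻¹) by group]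

section Abelian

variable {V : Subgroup X} [V.Normal]

/-- The product of the conjugates of `v` under a cyclic group of odd prime order is trivial. -/
theorem EvenPair.prod_orbit_eq_one (h : EvenPair X p) (hcomm : ∀ a ∈ V, ∀ b ∈ V, a * b = b * a)
    (hexp : ∀ v : V, (v : X) ^ p = 1) {w : X} {s : ℕ} (hs : s.Prime)
    (hs2 : s ≠ 2) (hw : orderOf w = s) (v : V) :
    letI : CommGroup V :=
      { (inferInstance : Group V) with mul_comm := fun x y => Subtype.ext (hcomm x x.2 y y.2) }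
    ∏ j ∈ range s, (MulAut.conjNormal (w ^ j) : MulAut V) v = 1 := by
  letI : CommGroup V :=
    { (inferInstance : Group V) with mul_comm := fun x y => Subtype.ext (hcomm x x.2 y y.2) }
  let f : X →* MulAut V := MulAut.conjNormal
  have hf : ∀ (g : X) (v : V), ((f g v : V) : X) = g * v * g⁻¹ := fun g v => MulAut.conjNormal_apply g v
  show ∏ j ∈ range s, f (w ^ j) v = 1
  set P := ∏ j ∈ range s, f (w ^ j) v with hP
  have hws : w ^ s = 1 := hw ▸ pow_orderOf_eq_one w
  by_cases hsp : s = p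
  · subst hsp
    have key : ∀ n : ℕ, ((v : X) * w) ^ n = ((∏ j ∈ range n, f (w ^ j) v : V) : X) * w ^ n := by
      intro n
      induction n with
      | zero => simp
      | succ n ih =>
        rw [pow_succ, ih, Finset.prod_range_succ, Subgroup.coe_mul, hf, pow_succ w]
        group
    have hk := key s
    rw [hws, mul_one, ← hP] at hk
    have h2 : ((v : X) * w) ^ s ^ 2 = 1 := by rw [pow_two, pow_mul, hk, hexp]
    rw [h.pow_p_eq_one h2] at hk
    exact Subtype.ext hk.symm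
  · have hfix : f w P = P := by
      have e1 : f w P = ∏ j ∈ range s, f (w ^ (j + 1)) v := by
        rw [hP, map_prod]
        refine Finset.prod_congr rfl fun j _ => ?_
        rw [pow_succ', map_mul f w, MulAut.mul_apply]
      have e2 := Finset.prod_range_succ' (fun j => f (w ^ j) v) s
      rw [Finset.prod_range_succ, hws, pow_zero] at e2
      rw [e1]
      exact mul_right_cancel e2.symm
    by_contra hne
    have hPp : orderOf (P : X) = p := by
      haveI := Fact.mk h.prime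
      exact orderOf_eq_prime (hexp P) fun e => hne (Subtype.ext e)
    have hc : Commute (P : X) w := by
      have := congrArg Subtype.val hfix
      rw [hf] at this
      exact (mul_inv_eq_iff_eq_mul.1 this).symm
    exact hsp (h.eq_of_commute_p hPp hw hs hs2 hc)

/-- Averaging: the commutators of `z` with an abelian 2-group centralise `V`. -/
theorem EvenPair.commutator_centralizes (h : EvenPair X p) (hexp : ∀ v ∈ V, v ^ p = 1)
    (hcomm : ∀ a ∈ V, ∀ b ∈ V, a * b = b * a) {P : Subgroup X} (hP : IsPGroup 2 P) {z : X} {s : ℕ}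
    (hs : s.Prime) (hs2 : s ≠ 2) (hz : orderOf z = s) (hnorm : ∀ a ∈ P, z * a * z⁻¹ ∈ P) {a : X}
    (ha : a ∈ P) : z * a * z⁻¹ * a⁻¹ ∈ Subgroup.centralizer (V : Set X) := by
  classical
  haveI := Fact.mk Nat.prime_two
  letI : CommGroup V :=
    { (inferInstance : Group V) with mul_comm := fun x y => Subtype.ext (hcomm x x.2 y y.2) }
  let f : X →* MulAut V := MulAut.conjNormal
  have hf : ∀ (g : X) (v : V), ((f g v : V) : X) = g * v * g⁻¹ := fun g v => MulAut.conjNormal_apply g v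
  let φ : P →* X :=
    { toFun := fun b => z * b * z⁻¹ * (b : X)⁻¹
      map_one' := by simp
      map_mul' := fun b c => by
        have e : (b : X)⁻¹ * (z * c * z⁻¹ * (c : X)⁻¹) = z * c * z⁻¹ * (c : X)⁻¹ * (b : X)⁻¹ :=
          h.comm_of_two hP (P.inv_mem b.2) (P.mul_mem (hnorm c c.2) (P.inv_mem c.2))
        rw [Subgroup.coe_mul, mul_assoc (z * b * z⁻¹), e]
        group }
  set A := φ.range with hA
  have hAP : A ≤ P := by
    rintro _ ⟨b, rfl⟩
    exact P.mul_mem (hnorm b b.2) (P.inv_mem b.2)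
  have hAz : ∀ d ∈ A, z * d * z⁻¹ ∈ A := by
    rintro _ ⟨b, rfl⟩
    refine ⟨⟨z * b * z⁻¹, hnorm b b.2⟩, ?_⟩
    show z * (z * b * z⁻¹) * z⁻¹ * (z * b * z⁻¹)⁻¹ = z * (z * b * z⁻¹ * (b : X)⁻¹) * z⁻¹
    group
  have hzs : z ^ s = 1 := hz ▸ pow_orderOf_eq_one z
  have hord : ∀ c ∈ A, orderOf (c * z) = s := by
    rintro _ ⟨b, rfl⟩
    have e : φ b * z = MulAut.conj ((b : X)⁻¹) z := by
      show z * b * z⁻¹ * (b : X)⁻¹ * z = (b : X)⁻¹ * z * (b : X)⁻¹⁻¹
      rw [h.comm_of_two hP (hnorm b b.2) (P.inv_mem b.2), inv_inv]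
      group
    rw [e, MulEquiv.orderOf_eq, hz]
  letI := Fintype.ofFinite A
  have hAa : z * a * z⁻¹ * a⁻¹ ∈ A := ⟨⟨a, ha⟩, rfl⟩
  refine Subgroup.mem_centralizer_iff.2 fun v hv => ?_
  set v' : V := ⟨v, hv⟩ with hv'
  set d : A := ⟨_, hAa⟩ with hd
  have htot : ∏ j ∈ range s, ∏ c : A, f (((c : X) * z) ^ j) v' = 1 := by
    rw [Finset.prod_comm]
    exact Finset.prod_eq_one fun c _ =>
      h.prod_orbit_eq_one hcomm (fun v => hexp v v.2) hs hs2 (hord c c.2) v'
  have hzero : ∏ c : A, f (((c : X) * z) ^ 0) v' = v' ^ Fintype.card A := by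
    simp
  have hfixA : ∀ w : V, f (d : X) (∏ c : A, f (c : X) w) = ∏ c : A, f (c : X) w := by
    intro w
    rw [map_prod]
    refine Fintype.prod_equiv (Equiv.mulLeft d) _ _ fun c => ?_
    rw [Equiv.coe_mulLeft, Subgroup.coe_mul, ← MulAut.mul_apply, ← map_mul f]
  have hterm : ∀ j, 0 < j → j < s →
      ∏ c : A, f (((c : X) * z) ^ j) v' = ∏ c : A, f (c : X) (f (z ^ j) v') := by
    intro j hj hjs
    let g : A → A := fun c => ⟨((c : X) * z) ^ j * (z ^ j)⁻¹, mul_pow_mem hAz c.2 j⟩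
    have hg : Function.Injective g := fun c e hce => by
      have h1 := congrArg Subtype.val hce
      have h2 := prime_pow_injective hs hj hjs (by rw [← hord c c.2]; exact pow_orderOf_eq_one _)
        (by rw [← hord e e.2]; exact pow_orderOf_eq_one _) (mul_right_cancel h1)
      exact Subtype.ext (mul_right_cancel h2)
    refine Fintype.prod_bijective g ⟨hg, Finite.surjective_of_injective hg⟩ _ _ fun c => ?_
    rw [← MulAut.mul_apply, ← map_mul f]
    congr 2
    simp [g]
  set R := ∏ j ∈ (range s).erase 0, ∏ c : A, f (((c : X) * z) ^ j) v' with hR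
  have hsplit : v' ^ Fintype.card A * R = 1 := by
    rw [← htot, ← hzero, hR, Finset.mul_prod_erase _ (fun j => ∏ c : A, f (((c : X) * z) ^ j) v')
      (Finset.mem_range.2 hs.pos)]
  have hRfix : f (d : X) R = R := by
    rw [hR, map_prod]
    refine Finset.prod_congr rfl fun j hj => ?_
    rw [Finset.mem_erase, Finset.mem_range] at hj
    rw [hterm j (Nat.pos_of_ne_zero hj.1) hj.2, hfixA]
  have hvfix : (f (d : X) v' * v'⁻¹) ^ Fintype.card A = 1 := by
    rw [mul_pow, ← map_pow, eq_inv_of_mul_eq_one_left hsplit, map_inv, hRfix, inv_pow,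
      eq_inv_of_mul_eq_one_left hsplit, inv_inv, inv_mul_cancel]
  have hp1 : (f (d : X) v' * v'⁻¹) ^ p = 1 := Subtype.ext (by
    rw [Subgroup.coe_pow, Subgroup.coe_one]; exact hexp _ (f (d : X) v' * v'⁻¹).2)
  have hcop : Nat.gcd (Fintype.card A) p = 1 := by
    rw [← Nat.card_eq_fintype_card]
    obtain ⟨k, hk⟩ := IsPGroup.iff_card.1 (hP.to_le hAP)
    rw [hk]
    exact Nat.Coprime.pow_left _ ((Nat.coprime_primes Nat.prime_two h.prime).2 h.ne_two.symm)
  have hone := pow_gcd_eq_one.2 ⟨hvfix, hp1⟩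
  rw [hcop, pow_one, mul_inv_eq_one] at hone
  have := congrArg Subtype.val hone
  rw [hf] at this
  exact (mul_inv_eq_iff_eq_mul.1 this).symm

end Abelian

/-- An odd prime order element normalising a Sylow 2-subgroup, acting nontrivially modulo `K`. -/
theorem EvenPair.exists_normalizing (h : EvenPair X p) (hns : ¬ Group.IsSolvable X) (K : Subgroup X)
    [K.Normal] [Group.IsSolvable K] :
    ∃ (P : Sylow 2 X) (z : X) (s : ℕ) (a : X), s.Prime ∧ s ≠ 2 ∧ orderOf z = s ∧
      (∀ b ∈ (P : Subgroup X), z * b * z⁻¹ ∈ (P : Subgroup X)) ∧ a ∈ (P : Subgroup X) ∧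
      z * a * z⁻¹ * a⁻¹ ∉ K := by
  classical
  haveI := Fact.mk Nat.prime_two
  obtain ⟨P⟩ : Nonempty (Sylow 2 X) := inferInstance
  set π := QuotientGroup.mk' K with hπ
  have hsurj : Function.Surjective π := QuotientGroup.mk'_surjective K
  set Q : Subgroup (X ⧸ K) := (P : Subgroup X).map π with hQ
  have hQns : ¬ Group.IsSolvable (X ⧸ K) := fun hs =>
    hns ((Group.isSolvable_iff_subgroup_quotient K).2 ⟨inferInstance, hs⟩)
  have hnot := not_normalizer_le_centralizer hQns (P.mapSurjective hsurj)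
  rw [Sylow.coe_mapSurjective, ← hQ, hQ, ← map_sylow_normalizer π hsurj P, ← hQ] at hnot
  set S : Subgroup X := (Subgroup.centralizer (Q : Set (X ⧸ K))).comap π with hS
  have hex : ∃ m ∈ Subgroup.normalizer ((P : Subgroup X) : Set X), m ∉ S := by
    by_contra! hall
    exact hnot (Subgroup.map_le_iff_le_comap.2 hall)
  obtain ⟨m, ⟨hmN, hmS⟩, hmin⟩ := Set.exists_min_image
    {m | m ∈ Subgroup.normalizer ((P : Subgroup X) : Set X) ∧ m ∉ S} orderOf (Set.toFinite _)
    (by obtain ⟨m, hm⟩ := hex; exact ⟨m, hm⟩)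
  have hPcomm : ∀ x ∈ (P : Subgroup X), x ∈ S := fun x hx => by
    refine Subgroup.mem_centralizer_iff.2 ?_
    rintro _ ⟨y, hy, rfl⟩
    rw [← map_mul, ← map_mul, h.comm_of_two P.isPGroup' hy hx]
  have hm1 : orderOf m ≠ 1 := fun e => hmS (by rw [orderOf_eq_one_iff.1 e]; exact S.one_mem)
  obtain ⟨s, hs, hsd⟩ := Nat.exists_prime_and_dvd hm1
  have hpow : ∀ q, q.Prime → q ∣ orderOf m → m ^ q ∈ S := by
    intro q hq hqd
    by_contra hn
    have := hmin _ ⟨Subgroup.pow_mem _ hmN q, hn⟩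
    rw [orderOf_pow_of_dvd hq.ne_zero hqd] at this
    exact absurd this (not_le.2 (Nat.div_lt_self (orderOf_pos m) hq.one_lt))
  have huniq : ∀ q, q.Prime → q ∣ orderOf m → q = s := by
    intro q hq hqd
    by_contra hne
    refine hmS ?_
    have hg := (Nat.coprime_primes hq hs).2 hne
    have h1 := S.mul_mem (S.zpow_mem (hpow q hq hqd) (Nat.gcdA q s)) (S.zpow_mem (hpow s hs hsd) (Nat.gcdB q s))
    rwa [← zpow_natCast, ← zpow_natCast, ← _root_.zpow_mul, ← _root_.zpow_mul, ← zpow_add,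
      ← Nat.gcd_eq_gcd_ab, hg.gcd_eq_one, Nat.cast_one, zpow_one] at h1
  have hnorm : ∀ y ∈ Subgroup.normalizer ((P : Subgroup X) : Set X), ∀ b ∈ (P : Subgroup X),
      y * b * y⁻¹ ∈ (P : Subgroup X) := fun y hy b hb => (Subgroup.mem_normalizer_iff.1 hy b).1 hb
  obtain ⟨l, hl⟩ : ∃ l, orderOf m = s ^ l :=
    ⟨_, Nat.eq_prime_pow_of_unique_prime_dvd (orderOf_pos m).ne' fun {q} hq hqd => huniq q hq hqd⟩
  have hs2 : s ≠ 2 := by
    rintro rfl
    refine hmS (hPcomm m ?_)
    have hmp : IsPGroup 2 (Subgroup.zpowers m) :=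
      IsPGroup.of_card (n := l) (by rw [Nat.card_zpowers, hl])
    have hsup : IsPGroup 2 ((P : Subgroup X) ⊔ Subgroup.zpowers m : Subgroup X) :=
      P.isPGroup'.to_sup_of_normal_left' hmp (by rwa [Subgroup.zpowers_le])
    rw [← P.3 hsup le_sup_left]
    exact Subgroup.mem_sup_right (Subgroup.mem_zpowers m)
  obtain ⟨b₀, hb₀, hb₀c⟩ : ∃ b ∈ (P : Subgroup X), m * b * m⁻¹ * b⁻¹ ∉ K := by
    by_contra! hall
    refine hmS (Subgroup.mem_centralizer_iff.2 ?_)
    rintro _ ⟨b, hb, rfl⟩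
    have h1 : π (m * b * m⁻¹ * b⁻¹) = 1 := (QuotientGroup.eq_one_iff _).2 (hall b hb)
    rw [map_mul, map_mul, map_mul, map_inv, map_inv, mul_inv_eq_one, mul_inv_eq_iff_eq_mul] at h1
    exact h1.symm
  suffices hl1 : orderOf m = s from
    ⟨P, m, s, b₀, hs, hs2, hl1, hnorm m hmN, hb₀, hb₀c⟩
  rcases Nat.lt_or_ge l 2 with hl2 | hl2
  · interval_cases l
    · rw [pow_zero] at hl; exact absurd hl hm1
    · rw [hl, pow_one]
  exfalso
  -- an element of order `s` which centralises `P` modulo `K`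
  set y := m ^ s ^ (l - 1) with hy
  have hyo : orderOf y = s := by
    rw [hy, orderOf_pow_of_dvd (pow_ne_zero _ hs.ne_zero) (hl ▸ pow_dvd_pow s (by omega)), hl,
      Nat.pow_div (by omega) hs.pos, show l - (l - 1) = 1 by omega, pow_one]
  have hyN : y ∈ Subgroup.normalizer ((P : Subgroup X) : Set X) := Subgroup.pow_mem _ hmN _
  have hyS : y ∈ S := by
    rw [hy, show l - 1 = (l - 2) + 1 by omega, pow_succ', pow_mul]
    exact S.pow_mem (hpow s hs hsd) _
  have hb₀K : b₀ ∉ K := fun hb => hb₀c (K.mul_mem (Subgroup.Normal.conj_mem inferInstance _ hb m) (K.inv_mem hb))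
  have hys : y ^ s = 1 := hyo ▸ pow_orderOf_eq_one y
  set c := (b₀ * y) ^ s with hc
  have hcP : c ∈ (P : Subgroup X) := by
    have := mul_pow_mem (hnorm y hyN) hb₀ s
    rwa [hys, inv_one, mul_one, ← hc] at this
  have hcy : Commute c y := by
    have e : y * c * y⁻¹ = c := by
      calc y * c * y⁻¹ = (y * b₀) ^ s := by rw [hc, ← conj_pow]; group
        _ = (b₀⁻¹ * (b₀ * y) * b₀⁻¹⁻¹) ^ s := by group
        _ = b₀⁻¹ * c * b₀⁻¹⁻¹ := by rw [conj_pow, hc]
        _ = c := by rw [h.comm_of_two P.isPGroup' ((P : Subgroup X).inv_mem hb₀) hcP]; group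
    exact (mul_inv_eq_iff_eq_mul.1 e).symm
  have hcK : c ∉ K := by
    intro hcK
    refine hb₀K ((QuotientGroup.eq_one_iff _).1 ?_)
    have hcomm : Commute (π b₀) (π y) :=
      Subgroup.mem_centralizer_iff.1 hyS (π b₀) ⟨b₀, hb₀, rfl⟩
    have h1 : π c = 1 := (QuotientGroup.eq_one_iff _).2 hcK
    rw [hc, map_pow, map_mul, hcomm.mul_pow, ← map_pow π y, hys, map_one, mul_one] at h1
    have h2 : π b₀ ^ 2 = 1 := by rw [← map_pow, pow_two, h.sq_eq_one P.isPGroup' hb₀, map_one]
    have h3 := pow_gcd_eq_one.2 ⟨h1, h2⟩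
    rwa [(Nat.coprime_primes hs Nat.prime_two).2 hs2, pow_one] at h3
  have hsp := h.eq_of_commute_invo (h.exists_order_two P.isPGroup' hcP fun e => hcK (e ▸ K.one_mem))
    hyo hs hs2 hcy
  subst hsp
  have hmp : m ^ s = 1 := h.pow_p_eq_one (k := l) (by rw [← hl]; exact pow_orderOf_eq_one m)
  have := Nat.le_of_dvd hs.pos (hl ▸ orderOf_dvd_of_pow_eq_one hmp)
  have := Nat.pow_lt_pow_right hs.one_lt hl2
  nlinarith

/-- No nontrivial abelian normal subgroup of prime exponent. -/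
theorem EvenPair.false_of_abelian_normal (h : EvenPair X p) (hns : ¬ Group.IsSolvable X)
    (V : Subgroup X) [V.Normal] (hne : V ≠ ⊥) (hcomm : ∀ a ∈ V, ∀ b ∈ V, a * b = b * a) {r : ℕ}
    (hr : r.Prime) (hexp : ∀ v ∈ V, v ^ r = 1) : False := by
  haveI := Fact.mk Nat.prime_two
  haveI := Fact.mk hr
  obtain ⟨v, hv, hv1⟩ : ∃ v ∈ V, v ≠ 1 := by
    by_contra! hall
    exact hne ((Subgroup.eq_bot_iff_forall V).2 hall)
  have hvo : orderOf v = r := orderOf_eq_prime (hexp v hv) hv1
  set K := Subgroup.centralizer (V : Set X) with hK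
  have hKc : ∀ y ∈ K, Commute v y := fun y hy => Subgroup.mem_centralizer_iff.1 hy v hv
  rcases eq_or_ne r 2 with rfl | hr2
  · haveI : Group.IsSolvable K := h.isSolvable_centralizer (Or.inl hvo) hKc
    obtain ⟨P⟩ : Nonempty (Sylow 2 X) := inferInstance
    have hV2 : IsPGroup 2 V := fun x => ⟨1, Subtype.ext (by
      rw [pow_one, Subgroup.coe_pow, Subgroup.coe_one]; exact hexp x x.2)⟩
    have hVP : V ≤ (P : Subgroup X) :=
      sup_eq_right.1 (P.3 (IsPGroup.to_sup_of_normal_left hV2 P.2) le_sup_right)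
    have hPK : (P : Subgroup X) ≤ K := fun x hx => Subgroup.mem_centralizer_iff.2 fun y hy =>
      h.comm_of_two P.isPGroup' (hVP hy) hx
    have hidx : ¬ 2 ∣ K.index := fun hd =>
      P.not_dvd_index (hd.trans (Subgroup.index_dvd_of_le hPK))
    haveI : Group.IsSolvable (X ⧸ K) :=
      Cfsg.Agent.S0205.result (by
        rw [Nat.odd_iff, ← Subgroup.index_eq_card]; exact Nat.two_dvd_ne_zero.1 hidx)
    exact hns ((Group.isSolvable_iff_subgroup_quotient K).2 ⟨inferInstance, inferInstance⟩)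
  -- a four group gives an element of order `2 r`
  obtain ⟨s, t, hs, ht, hst, hstc⟩ := h.exists_four hns
  have hfix : ∀ u : X, orderOf u = 2 → r = p ∨ u * v * u⁻¹ = v⁻¹ := by
    intro u hu
    have huu : u * u = 1 := by rw [← pow_two, ← hu]; exact pow_orderOf_eq_one u
    have hui : u⁻¹ = u := inv_eq_of_mul_eq_one_right huu
    have huv : u * v * u⁻¹ ∈ V := Subgroup.Normal.conj_mem inferInstance v hv u
    by_cases hx : v * (u * v * u⁻¹) = 1
    · exact Or.inr (eq_inv_of_mul_eq_one_right hx)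
    · refine Or.inl (h.eq_of_commute_invo hu (orderOf_eq_prime (hexp _ (V.mul_mem hv huv)) hx) hr hr2 ?_)
      have e : u * (v * (u * v * u⁻¹)) * u⁻¹ = v * (u * v * u⁻¹) := by
        calc u * (v * (u * v * u⁻¹)) * u⁻¹ = (u * v * u⁻¹) * (u * u * v * (u * u)⁻¹) := by group
          _ = (u * v * u⁻¹) * v := by rw [huu]; group
          _ = _ := hcomm _ huv _ hv
      exact mul_inv_eq_iff_eq_mul.1 e
  have hrp : r = p := by
    by_contra hne'
    have e1 := (hfix s hs).resolve_left hne'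
    have e2 := (hfix t ht).resolve_left hne'
    have hst2 : orderOf (s * t) = 2 := by
      refine orderOf_eq_prime ?_ fun e => hst ?_
      · have hs2' : s ^ 2 = 1 := hs ▸ pow_orderOf_eq_one s
        have ht2' : t ^ 2 = 1 := ht ▸ pow_orderOf_eq_one t
        rw [hstc.mul_pow, hs2', ht2', one_mul]
      · rw [eq_inv_of_mul_eq_one_left e]
        exact inv_eq_of_mul_eq_one_right (by rw [← pow_two, ← ht]; exact pow_orderOf_eq_one t)
    have e3 := (hfix _ hst2).resolve_left hne'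
    rw [_root_.mul_inv_rev, show s * t * v * (t⁻¹ * s⁻¹) = s * (t * v * t⁻¹) * s⁻¹ by group, e2,
      ← inv_inv (s * v⁻¹ * s⁻¹), show (s * v⁻¹ * s⁻¹)⁻¹ = s * v * s⁻¹ by group, e1, inv_inv] at e3
    have : v ^ 2 = 1 := by rw [pow_two]; nth_rewrite 1 [e3]; exact inv_mul_cancel v
    have := Nat.le_of_dvd two_pos (hvo ▸ orderOf_dvd_of_pow_eq_one this)
    have := hr.two_le
    omega
  subst hrp
  haveI : Group.IsSolvable K := h.isSolvable_centralizer (Or.inr hvo) hKc
  obtain ⟨P, z, q, a, hq, hq2, hz, hnorm, ha, hnot⟩ := h.exists_normalizing hns K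
  exact hnot (h.commutator_centralizes hexp hcomm P.isPGroup' hq hq2 hz hnorm ha)

/-- No nontrivial solvable normal subgroup. -/
theorem EvenPair.eq_bot_of_solvable (h : EvenPair X p) (hns : ¬ Group.IsSolvable X) (R : Subgroup X)
    [R.Normal] [Group.IsSolvable R] : R = ⊥ := by
  by_contra hne
  obtain ⟨V, hV, hV0, hVR, hVmin⟩ :=
    MinimalNormal.exists_minimal_normal_le (inferInstance : R.Normal) hne
  haveI := hV
  haveI : Group.IsSolvable V :=
    Group.isSolvable_of_isSolvable_injective (f := Subgroup.inclusion hVR) (Subgroup.inclusion_injective hVR)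
  obtain ⟨hab, r, hr, hexp⟩ := MinimalNormal.elementaryAbelian V hV0 hVmin
  exact h.false_of_abelian_normal hns V hV0
    (fun a ha b hb => congrArg Subtype.val (hab.is_comm.comm ⟨a, ha⟩ ⟨b, hb⟩)) hr hexp

end Cfsg.Agent.Lib.ThreeOrders24
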